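import Cfsg.Agent.Lib.OrdTwoPrime.Basic
import Cfsg.Agent.S2475
import Cfsg.Agent.Lib.PSLOrderSpectrum.Main
import Cfsg.Prelude.Def_Exceptional

/-!
# The only group `PSL₂(q)` with the given element orders has `q = 7`
-/

set_option autoImplicit false
set_option linter.all false

namespace Cfsg.Agent.OrdTwoPrime

universe u

/-- The admissible orders. -/
def GoodOrder (m : ℕ) : Prop := (∃ k, m = 2 ^ k) ∨ (m.Prime ∧ m ≠ 5)

theorem good_three {m : ℕ} (hm : GoodOrder m) (h3 : 3 ∣ m) : m = 3 := by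
  rcases hm with ⟨k, rfl⟩ | ⟨hp, -⟩
  · have := (Nat.prime_dvd_prime_iff_eq Nat.prime_three Nat.prime_two).mp
      (Nat.prime_three.dvd_of_dvd_pow h3)
    omega
  · exact ((Nat.prime_dvd_prime_iff_eq Nat.prime_three hp).mp h3).symm

theorem good_even {m : ℕ} (hm : GoodOrder m) (h2 : 2 ∣ m) : ∃ k, m = 2 ^ k := by
  rcases hm with h | ⟨hp, -⟩
  · exact h
  · exact ⟨1, by rw [pow_one]; exact ((Nat.prime_dvd_prime_iff_eq Nat.prime_two hp).mp h2).symm⟩

theorem three_pow_mod_eight (n : ℕ) : (Even n → 3 ^ n % 8 = 1) ∧ (¬ Even n → 3 ^ n % 8 = 3) := by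
  induction n with
  | zero => simp
  | succ n ih =>
    rw [pow_succ, Nat.mul_mod, Nat.even_add_one]
    refine ⟨fun he => ?_, fun he => ?_⟩
    · rw [ih.2 he]
    · rw [ih.1 (not_not.mp he)]

theorem no_three_pow {n j : ℕ} (hn : 2 ≤ n) (h : 3 ^ n = 2 ^ j + 1 ∨ 3 ^ n + 1 = 2 ^ j) : n = 2 := by
  have h9 : 9 ≤ 3 ^ n := le_trans (by norm_num) (Nat.pow_le_pow_right (by norm_num : 0 < 3) hn)
  have hj : 3 ≤ j := by
    by_contra hlt
    have : 2 ^ j ≤ 2 ^ 2 := Nat.pow_le_pow_right (by norm_num) (by omega)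
    omega
  have h8 : 8 ∣ 2 ^ j := (pow_dvd_pow 2 hj : 2 ^ 3 ∣ 2 ^ j)
  have hm := three_pow_mod_eight n
  by_cases he : Even n
  · rcases h with h | h
    · obtain ⟨a, rfl⟩ := he
      have hfac : (3 ^ a + 1) * (3 ^ a - 1) = 2 ^ j := by
        rw [← Nat.sq_sub_sq, ← pow_mul, one_pow, mul_two]; omega
      obtain ⟨i, -, hi⟩ := (Nat.dvd_prime_pow Nat.prime_two).mp (Dvd.intro _ hfac)
      obtain ⟨l, -, hl⟩ := (Nat.dvd_prime_pow Nat.prime_two).mp (Dvd.intro_left _ hfac)
      have h3a : 3 ≤ 3 ^ a := le_trans (by norm_num : 3 ≤ 3 ^ 1) (Nat.pow_le_pow_right (by norm_num) (by omega))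
      rcases Nat.lt_or_ge l 2 with hl2 | hl2
      · have : 2 ^ l ≤ 2 ^ 1 := Nat.pow_le_pow_right (by norm_num) (by omega)
        have ha1 : a = 1 := by
          by_contra hne
          have : 3 ^ 2 ≤ 3 ^ a := Nat.pow_le_pow_right (by norm_num) (by omega)
          omega
        omega
      · have hi2 : 2 ≤ i := by
          by_contra hlt
          have : 2 ^ i ≤ 2 ^ 1 := Nat.pow_le_pow_right (by norm_num) (by omega)
          omega
        have h4i : 2 ^ 2 ∣ 2 ^ i := pow_dvd_pow 2 hi2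
        have h4l : 2 ^ 2 ∣ 2 ^ l := pow_dvd_pow 2 hl2
        omega
    · have := hm.1 he; omega
  · have := hm.2 he; omega

variable {G : Type u} [Group G] [Finite G]

theorem P5.psl_card (h : P5 G) (hns : ¬ Group.IsSolvable G) {F : Type*} [Field F] [Fintype F]
    (e : G ≃* Matrix.ProjectiveSpecialLinearGroup (Fin 2) F) : Nat.card G = 168 := by
  classical
  have hcard : Nat.gcd 2 (Fintype.card F - 1) * Nat.card G =
      Fintype.card F * ((Fintype.card F - 1) * (Fintype.card F + 1)) := by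
    rw [Nat.card_congr e.toEquiv]; exact PSLOrderSpectrum.card_psl_two
  by_cases hq7 : Fintype.card F = 7
  · rw [hq7] at hcard
    norm_num at hcard
    omega
  exfalso
  have h3 := three_primes_of_not_solvable hns
  have hq2 := Fintype.one_lt_card (α := F)
  rcases Nat.lt_or_ge (Fintype.card F) 4 with hlt | h4
  · have h612 : Nat.card G ∣ 2 ^ 2 * 3 := by
      interval_cases hc : Fintype.card F <;> norm_num at hcard <;> [skip; skip]
      · rw [hcard]; norm_num
      · rw [show Nat.card G = 12 by omega]; norm_num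
    have := Finset.card_le_card (Nat.primeFactors_mono h612 (by norm_num))
    rw [Nat.primeFactors_mul (by norm_num) (by norm_num), Nat.primeFactors_prime_pow (by norm_num) Nat.prime_two,
      Nat.Prime.primeFactors Nat.prime_three] at this
    have h' : (({2} : Finset ℕ) ∪ {3}).card = 2 := by decide
    omega
  obtain ⟨p, hp⟩ := CharP.exists F
  haveI := hp
  haveI : Fact p.Prime := ⟨CharP.char_is_prime F p⟩
  obtain ⟨n, hpp, hqn⟩ := FiniteField.card F p
  have hord : ∀ m : ℕ, m ∣ p ∨ m ∣ (Fintype.card F - 1) / Nat.gcd 2 (Fintype.card F - 1) ∨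
      m ∣ (Fintype.card F + 1) / Nat.gcd 2 (Fintype.card F - 1) → GoodOrder m := by
    intro m hm
    have := (Set.ext_iff.mp (S2475.result (F := F) p h4) m).mpr hm
    obtain ⟨x, rfl⟩ := this
    by_cases hx : x = 1
    · exact Or.inl ⟨0, by rw [hx, orderOf_one, pow_zero]⟩
    rw [← MulEquiv.orderOf_eq e.symm x]
    exact h _ (by simpa using hx)
  by_cases hp2 : p = 2
  · subst hp2
    have heven : 2 ∣ Fintype.card F := hqn ▸ dvd_pow_self 2 n.ne_zero
    have hd : Nat.gcd 2 (Fintype.card F - 1) = 1 := Nat.prime_two.coprime_iff_not_dvd.mpr (by omega)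
    rw [hd, Nat.div_one, Nat.div_one] at hord
    have h3q : ¬ 3 ∣ Fintype.card F := fun hd3 => by
      rw [hqn] at hd3
      have := (Nat.prime_dvd_prime_iff_eq Nat.prime_three Nat.prime_two).mp (Nat.prime_three.dvd_of_dvd_pow hd3)
      omega
    rcases (by omega : Fintype.card F % 3 = 1 ∨ Fintype.card F % 3 = 2) with hA | hB
    · have hA : 3 ∣ Fintype.card F - 1 := by omega
      have := good_three (hord _ (Or.inr (Or.inl dvd_rfl))) hA
      rcases hord _ (Or.inr (Or.inr dvd_rfl)) with ⟨k, hk⟩ | ⟨-, h5⟩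
      · rcases k with _ | k
        · simp at hk
        · rw [pow_succ] at hk; omega
      · omega
    · have hB : 3 ∣ Fintype.card F + 1 := by omega
      have := good_three (hord _ (Or.inr (Or.inr dvd_rfl))) hB
      omega
  · have hodd : ¬ 2 ∣ Fintype.card F := fun hd2 => hp2
      ((Nat.prime_dvd_prime_iff_eq Nat.prime_two hpp).mp (Nat.prime_two.dvd_of_dvd_pow (hqn ▸ hd2))).symm
    have hd : Nat.gcd 2 (Fintype.card F - 1) = 2 := Nat.gcd_eq_left (by omega)
    rw [hd] at hord
    have gA := hord _ (Or.inr (Or.inl dvd_rfl))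
    have gB := hord _ (Or.inr (Or.inr dvd_rfl))
    have gp := hord _ (Or.inl dvd_rfl)
    rcases (by omega : Fintype.card F % 6 = 1 ∨ Fintype.card F % 6 = 5 ∨ Fintype.card F % 6 = 3)
      with hA | hB | hq
    · have := good_three gA (by omega)
      omega
    · have := good_three gB (by omega)
      have hq5 : Fintype.card F = 5 := by omega
      have hp5 : p = 5 := by
        have h5 : p ∣ 5 := hq5 ▸ hqn ▸ dvd_pow_self p n.ne_zero
        exact (Nat.prime_dvd_prime_iff_eq hpp (by norm_num)).mp h5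
      subst hp5
      rcases gp with ⟨k, hk⟩ | ⟨-, h5⟩
      · rcases k with _ | k
        · simp at hk
        · rw [pow_succ] at hk; omega
      · exact h5 rfl
    · have hp3 : p = 3 := ((Nat.prime_dvd_prime_iff_eq Nat.prime_three hpp).mp
        (Nat.prime_three.dvd_of_dvd_pow (hqn ▸ (by omega : 3 ∣ Fintype.card F)))).symm
      subst hp3
      have hn : 2 ≤ (n : ℕ) := by
        by_contra hlt
        have : (3 : ℕ) ^ (n : ℕ) ≤ 3 ^ 1 := Nat.pow_le_pow_right (by norm_num) (by omega)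
        omega
      have key : ∃ j, (3 : ℕ) ^ (n : ℕ) = 2 ^ j + 1 ∨ 3 ^ (n : ℕ) + 1 = 2 ^ j := by
        rcases (by omega : 2 ∣ (Fintype.card F - 1) / 2 ∨ 2 ∣ (Fintype.card F + 1) / 2) with hA | hB
        · obtain ⟨k, hk⟩ := good_even gA hA
          exact ⟨k + 1, Or.inl (by rw [pow_succ]; omega)⟩
        · obtain ⟨k, hk⟩ := good_even gB hB
          exact ⟨k + 1, Or.inr (by rw [pow_succ]; omega)⟩
      obtain ⟨j, hj⟩ := key
      have h2 := no_three_pow hn hj
      rw [h2] at hqn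
      rcases gB with ⟨k, hk⟩ | ⟨-, h5⟩
      · rcases k with _ | k
        · simp [hqn] at hk
        · rw [pow_succ, hqn] at hk; omega
      · exact h5 (by rw [hqn]; norm_num)

theorem P5.not_suzuki (h : P5 G) (hs : Cfsg.IsSuzuki G) : False := by
  obtain ⟨-, m, -, hc⟩ := hs
  refine h.not_five ?_
  rw [hc]
  refine dvd_mul_of_dvd_left (dvd_mul_of_dvd_right ?_ _) _
  have h4 : (4 : ℕ) ^ (2 * m + 1) % 5 = 4 := by
    rw [pow_succ, pow_mul, Nat.mul_mod, Nat.pow_mod]
    norm_num
  rw [← pow_mul, mul_comm (2 * m + 1) 2, pow_mul]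
  norm_num
  omega

end Cfsg.Agent.OrdTwoPrime
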