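import Mathlib
import Cfsg.Agent.S3992
import Cfsg.Agent.SolvStruct.ThreeOrderSolvable

/-!
# Groups whose element orders are powers of two or primes other than five
-/

set_option autoImplicit false
set_option linter.all false

namespace Cfsg.Agent.OrdTwoPrime

open Subgroup

universe u

/-- Every non-trivial element has 2-power order or prime order different from five. -/
def P5 (G : Type*) [Group G] : Prop :=
  ∀ g : G, g ≠ 1 → (∃ k : ℕ, orderOf g = 2 ^ k) ∨ ((orderOf g).Prime ∧ orderOf g ≠ 5)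

/-- Simple of order 168. -/
def Concl (G : Type*) [Group G] : Prop := IsSimpleGroup G ∧ Nat.card G = 168

variable {G : Type u} [Group G]

theorem P5.sub (h : P5 G) (H : Subgroup G) : P5 H := fun g hg => by
  rw [← Subgroup.orderOf_coe]; exact h _ (by simpa using hg)

theorem P5.quot (h : P5 G) (N : Subgroup G) [N.Normal] : P5 (G ⧸ N) := by
  intro g hg
  obtain ⟨x, rfl⟩ := QuotientGroup.mk'_surjective N g
  have hd := orderOf_map_dvd (QuotientGroup.mk' N) x
  rcases h x (fun e => hg (by rw [e, map_one])) with ⟨k, hk⟩ | ⟨hp, h5⟩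
  · rw [hk] at hd
    obtain ⟨j, -, hj⟩ := (Nat.dvd_prime_pow Nat.prime_two).mp hd
    exact Or.inl ⟨j, hj⟩
  · rcases (Nat.dvd_prime hp).mp hd with e | e
    · exact absurd (orderOf_eq_one_iff.mp e) hg
    · exact Or.inr (e.symm ▸ ⟨hp, h5⟩)

theorem P5.cp (h : P5 G) : S3992.CP G := fun g hg => by
  rcases h g hg with ⟨k, hk⟩ | ⟨hp, -⟩
  · rw [hk]
    refine Nat.prime_two.prime.isPrimePow.pow fun e => hg ?_
    rw [e, pow_zero, orderOf_eq_one_iff] at hk
    exact hk
  · exact hp.isPrimePow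

theorem P5.orderOf_eq (h : P5 G) {g : G} {p : ℕ} (hp : p.Prime) (hp2 : p ≠ 2)
    (hd : p ∣ orderOf g) : orderOf g = p := by
  have hg : g ≠ 1 := fun e => hp.ne_one (Nat.dvd_one.mp (by simpa [e] using hd))
  rcases h g hg with ⟨k, hk⟩ | ⟨hq, -⟩
  · rw [hk] at hd
    exact absurd ((Nat.prime_dvd_prime_iff_eq hp Nat.prime_two).mp (hp.dvd_of_dvd_pow hd)) hp2
  · exact ((Nat.prime_dvd_prime_iff_eq hp hq).mp hd).symm

theorem P5.not_five [Finite G] (h : P5 G) : ¬ 5 ∣ Nat.card G := fun hd => by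
  haveI : Fact (Nat.Prime 5) := ⟨by norm_num⟩
  obtain ⟨g, hg⟩ := exists_prime_orderOf_dvd_card' 5 hd
  rcases h g (fun e => by simp [e] at hg) with ⟨k, hk⟩ | ⟨-, h5⟩
  · have h5 : 5 ∣ 2 ^ k := dvd_of_eq (hg.symm.trans hk)
    have := (Nat.prime_dvd_prime_iff_eq (by norm_num : Nat.Prime 5) Nat.prime_two).mp
      ((by norm_num : Nat.Prime 5).dvd_of_dvd_pow h5)
    norm_num at this
  · exact h5 hg

theorem P5.centralizer [Finite G] (h : P5 G) {z : G} {p : ℕ} [Fact p.Prime] (hz : orderOf z = p) :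
    IsPGroup p (Subgroup.centralizer ({z} : Set G)) :=
  h.cp.isPGroup hz fun _ hg => (Subgroup.mem_centralizer_singleton_iff.mp hg)

theorem P5.pow_eq_one_of_commute [Finite G] (h : P5 G) {z g : G} {p : ℕ} [hp : Fact p.Prime]
    (hp2 : p ≠ 2) (hz : orderOf z = p) (hg : Commute g z) : g ^ p = 1 := by
  by_cases hg1 : g = 1
  · rw [hg1, one_pow]
  obtain ⟨k, hk⟩ := IsPGroup.iff_orderOf.mp (h.centralizer hz)
    ⟨g, Subgroup.mem_centralizer_singleton_iff.mpr hg.eq⟩
  rw [Subgroup.orderOf_mk] at hk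
  have hk0 : k ≠ 0 := fun e => hg1 (orderOf_eq_one_iff.mp (by rw [hk, e, pow_zero]))
  rw [← h.orderOf_eq hp.out hp2 (hk ▸ dvd_pow_self p hk0)]
  exact pow_orderOf_eq_one g

theorem P5.eq_one_of_commute [Finite G] (h : P5 G) {a b : G} {p q : ℕ} (hp : p.Prime) (hq : q.Prime)
    (hpq : p ≠ q) (hb : orderOf b = q) (hab : Commute a b) (ha : a ^ p = 1) : a = 1 := by
  haveI := Fact.mk hp
  by_contra ha1
  exact hpq (h.cp.eq_prime hab hp hq (dvd_of_eq (orderOf_eq_prime ha ha1).symm) hb)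

/-- An involution centralizes no non-trivial element of odd prime power order. -/
theorem P5.eq_one_of_commute_involution [Finite G] (h : P5 G) {a t : G} (ht : orderOf t = 2)
    {p : ℕ} (hp : p.Prime) (hp2 : p ≠ 2) (ha : ∃ k, a ^ p ^ k = 1) (hat : Commute a t) : a = 1 := by
  haveI : Fact (Nat.Prime 2) := ⟨Nat.prime_two⟩
  obtain ⟨k, hk⟩ := ha
  obtain ⟨j, hj⟩ := IsPGroup.iff_orderOf.mp (h.centralizer ht)
    ⟨a, Subgroup.mem_centralizer_singleton_iff.mpr hat.eq⟩
  rw [Subgroup.orderOf_mk] at hj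
  have hd := orderOf_dvd_of_pow_eq_one hk
  rw [hj] at hd
  rw [← orderOf_eq_one_iff, hj]
  exact Nat.eq_one_of_dvd_coprimes (((Nat.coprime_primes hp Nat.prime_two).mpr hp2).pow k j)
    hd (dvd_refl _)

theorem P5.centralizer_two [Finite G] (h : P5 G) {t : G} (ht : orderOf t = 2) :
    IsPGroup 2 (Subgroup.centralizer ({t} : Set G)) :=
  haveI : Fact (Nat.Prime 2) := ⟨Nat.prime_two⟩
  h.centralizer ht

/-- A four-group normalises no non-trivial subgroup of odd prime power order. -/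
theorem P5.eq_bot_of_four [Finite G] (h : P5 G) {s t : G} (hs : orderOf s = 2) (ht : orderOf t = 2)
    (hst : s * t = t * s) (hne : s ≠ t) {p : ℕ} [hp : Fact p.Prime] (hp2 : p ≠ 2) {Q : Subgroup G}
    (hQ : IsPGroup p Q) (hsQ : s ∈ normalizer (Q : Set G)) (htQ : t ∈ normalizer (Q : Set G)) :
    Q = ⊥ := by
  by_contra hQ1
  haveI : Nontrivial Q := (Q.nontrivial_iff_ne_bot).mpr hQ1
  haveI := hQ.center_nontrivial
  obtain ⟨⟨a, ha⟩, ha1⟩ := exists_ne (1 : Subgroup.center Q)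
  replace ha1 : a ≠ 1 := fun e => ha1 (Subtype.ext e)
  have inv : ∀ u : G, orderOf u = 2 → u ∈ normalizer (Q : Set G) →
      u * (a : G) * u⁻¹ = (a : G)⁻¹ := by
    intro u hu huQ
    have hm : u * (a : G) * u⁻¹ ∈ Q := (Subgroup.mem_normalizer_iff.mp huQ _).mp a.2
    have hc : (a : G) * (u * a * u⁻¹) = u * a * u⁻¹ * a :=
      (congrArg Subtype.val (Subgroup.mem_center_iff.mp ha ⟨_, hm⟩)).symm
    have hu2 : u * u = 1 := by rw [← pow_two, ← hu]; exact pow_orderOf_eq_one u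
    have huu : u⁻¹ = u := inv_eq_of_mul_eq_one_right hu2
    have hcom : Commute ((a : G) * (u * a * u⁻¹)) u := by
      show (a : G) * (u * a * u⁻¹) * u = u * ((a : G) * (u * a * u⁻¹))
      calc (a : G) * (u * a * u⁻¹) * u = u * a * u⁻¹ * a * u := by rw [hc]
        _ = u * a * (u * a * u⁻¹) := by simp only [huu]; group
        _ = _ := by group
    obtain ⟨k, hk⟩ := hQ ⟨_, mul_mem a.2 hm⟩
    have := h.eq_one_of_commute_involution hu hp.out hp2 ⟨k, congrArg Subtype.val hk⟩ hcom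
    exact eq_inv_of_mul_eq_one_right this
  have hst2 : orderOf (s * t) = 2 := by
    refine orderOf_eq_prime ?_ fun e => hne ?_
    · have hs2 : s * s = 1 := by rw [← pow_two, ← hs]; exact pow_orderOf_eq_one s
      have ht2 : t * t = 1 := by rw [← pow_two, ← ht]; exact pow_orderOf_eq_one t
      rw [pow_two, mul_assoc, ← mul_assoc t, ← hst, mul_assoc s, ht2, mul_one, hs2]
    · rw [eq_inv_of_mul_eq_one_left e]
      exact inv_eq_of_mul_eq_one_right (by rw [← pow_two, ← ht]; exact pow_orderOf_eq_one t)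
  have e1 := inv (s * t) hst2 (mul_mem hsQ htQ)
  have e2 : s * t * (a : G) * (s * t)⁻¹ = a := by
    calc s * t * (a : G) * (s * t)⁻¹ = s * (t * a * t⁻¹) * s⁻¹ := by group
      _ = (s * a * s⁻¹)⁻¹ := by rw [inv t ht htQ]; group
      _ = a := by rw [inv s hs hsQ, inv_inv]
  rw [e2] at e1
  have h2 : a ^ 2 = 1 := Subtype.ext (by
    rw [SubmonoidClass.coe_pow, pow_two, OneMemClass.coe_one]
    nth_rw 2 [e1]
    exact mul_inv_cancel _)
  obtain ⟨k, hk⟩ := IsPGroup.iff_orderOf.mp hQ a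
  have hd := orderOf_dvd_of_pow_eq_one h2
  rw [hk] at hd
  refine ha1 (orderOf_eq_one_iff.mp ?_)
  rw [hk]
  exact Nat.eq_one_of_dvd_coprimes (((Nat.coprime_primes hp.out Nat.prime_two).mpr hp2).pow_left k)
    (dvd_refl _) hd

theorem P5.primes_le_two [Finite G] (h : P5 G) [Group.IsSolvable G] :
    (Nat.card G).primeFactors.card ≤ 2 :=
  S1475.higman _ rfl fun g => (em (g = 1)).symm.imp (fun hg => h.cp g hg) id

theorem three_primes_of_not_solvable [Finite G] (hns : ¬ Group.IsSolvable G) :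
    3 ≤ (Nat.card G).primeFactors.card := by
  by_contra hle
  exact hns (SolvStruct.ThreeOrderSolvable.solvable_of_card_primeFactors (by omega))

theorem not_solvable_of_concl [Finite G] (hc : Concl G) : ¬ Group.IsSolvable G := by
  intro hs
  haveI := hc.1
  haveI := hs
  obtain ⟨p, hp, hne⟩ := S1475.exists_pCore_ne_bot (G := G)
  haveI := Fact.mk hp
  rcases IsSimpleGroup.eq_bot_or_eq_top_of_normal (Cfsg.pCore p G) inferInstance with e | e
  · exact hne e
  · have h1 := (Cores.pCore_isPGroup (G := G) p).to_le (le_of_eq e.symm)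
    obtain ⟨k, hk⟩ := IsPGroup.iff_card.mp h1
    rw [Subgroup.card_top, hc.2] at hk
    have h2 : p = 2 := ((Nat.prime_dvd_prime_iff_eq Nat.prime_two hp).mp
      (Nat.prime_two.dvd_of_dvd_pow (hk ▸ (by norm_num : 2 ∣ 168)))).symm
    have h3 : p = 3 := ((Nat.prime_dvd_prime_iff_eq Nat.prime_three hp).mp
      (Nat.prime_three.dvd_of_dvd_pow (hk ▸ (by norm_num : 3 ∣ 168)))).symm
    omega

end Cfsg.Agent.OrdTwoPrime
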