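import Cfsg.Agent.Lib.OrdTwoPrime.Arith
import Cfsg.Agent.Lib.CentFour.TwoGroup
import Cfsg.Agent.Lib.Classical.CyclicExt
import Cfsg.Agent.S0508
import Cfsg.Agent.S3280

/-!
# A self-centralizing four-group
-/

set_option autoImplicit false
set_option linter.all false

namespace Cfsg.Agent.OrdTwoPrime

open Subgroup Cfsg.Agent.Involutions

universe u

variable {G : Type u} [Group G] [Finite G]

theorem P5.of_small_centralizer (h : P5 G) [IsSimpleGroup G] (hns : ¬ Group.IsSolvable G) {w : G}
    (hw : Nat.card (Subgroup.centralizer ({w} : Set G)) ≤ 4) : Nat.card G = 168 := by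
  have hnc : ¬ IsCyclic G := fun hc => hns (by
    letI := IsCyclic.commGroup (α := G)
    infer_instance)
  have hfive : ∀ n, 5 ≤ n → ¬ Nonempty (G ≃* alternatingGroup (Fin n)) := by
    rintro n hn ⟨e⟩
    haveI : Nontrivial (Fin n) := Fin.nontrivial_iff_two_le.mpr (by omega)
    refine h.not_five ?_
    rw [Nat.card_congr e.toEquiv, nat_card_alternatingGroup, Nat.card_eq_fintype_card, Fintype.card_fin]
    have : 2 * 5 ∣ n.factorial := (by norm_num [Nat.factorial] : 2 * 5 ∣ Nat.factorial 5).trans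
      (Nat.factorial_dvd_factorial hn)
    exact (Nat.dvd_div_iff_mul_dvd ((dvd_mul_right 2 5).trans this)).mpr this
  rcases S3280.result hnc w hw with e | e | e | ⟨F, _, _, -, ⟨e⟩⟩
  · exact absurd e (hfive 5 (by norm_num))
  · exact absurd e (hfive 6 (by norm_num))
  · exact absurd e (hfive 7 (by norm_num))
  · exact h.psl_card hns e

/-- With all involution centralizers 2-groups the Sylow 2-subgroup is not semidihedral. -/
theorem P5.not_quasiDihedral (h : P5 G) [IsSimpleGroup G] (S : Sylow 2 G)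
    (hS : Cfsg.IsQuasiDihedral (S : Subgroup G)) (hns : ¬ Group.IsSolvable G) : False := by
  haveI : Fact (Nat.Prime 2) := ⟨Nat.prime_two⟩
  obtain ⟨D⟩ := QuasiDihedral.exists_gens hS
  have hz2 : orderOf ((D.z : (S : Subgroup G)) : G) = 2 := by
    refine orderOf_eq_prime (by rw [pow_two]; exact QuasiDihedralFusion.z_mul_z D) fun e => ?_
    have e' : D.P D.h = D.P 0 := by
      rw [D.P_zero]; exact Subtype.ext e
    exact D.h_ne_zero (D.P_inj.mp e')
  have hcen : (S : Subgroup G) ≤ Subgroup.centralizer ({((D.z : (S : Subgroup G)) : G)} : Set G) := by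
    intro s hs
    rw [Subgroup.mem_centralizer_singleton_iff]
    refine congrArg Subtype.val (?_ : (⟨s, hs⟩ : (S : Subgroup G)) * D.z = D.z * ⟨s, hs⟩)
    rcases D.forms ⟨s, hs⟩ with ⟨j, e⟩ | ⟨j, e⟩ <;> rw [e]
    · exact mul_inv_eq_iff_eq_mul.mp (D.conj_P_P j D.h)
    · exact ((D.commute_P_q).mpr (Or.inr rfl)).symm.eq
  have hCS : Subgroup.centralizer ({((D.z : (S : Subgroup G)) : G)} : Set G) = (S : Subgroup G) :=
    S.is_maximal' (h.centralizer_two hz2) hcen
  have hQ : QuasiDihedralClasses.QFix D := by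
    intro i hi hc
    obtain ⟨g, hg⟩ := isConj_iff.1 hc
    have e1 : ((D.q i : (S : Subgroup G)) : G) * D.q i = D.z := by
      rw [← Subgroup.coe_mul, D.q_sq, D.h_mul_odd hi]; rfl
    have e2 : ((D.P D.c : (S : Subgroup G)) : G) * D.P D.c = D.z := by
      rw [← Subgroup.coe_mul, ← D.P_add, D.c_add_c]; rfl
    have hgz : g * (D.z : G) * g⁻¹ = D.z := by
      conv_lhs => rw [← e1]
      rw [← e2, ← hg]; group
    have hgS : g ∈ (S : Subgroup G) := by
      rw [← hCS, Subgroup.mem_centralizer_singleton_iff]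
      exact mul_inv_eq_iff_eq_mul.mp hgz
    have hg' : (⟨g, hgS⟩ : (S : Subgroup G)) * D.q i * (⟨g, hgS⟩)⁻¹ = D.P D.c := Subtype.ext hg
    have hg'' : (⟨g, hgS⟩ : (S : Subgroup G))⁻¹ * D.P D.c * ((⟨g, hgS⟩ : (S : Subgroup G))⁻¹)⁻¹ = D.q i := by
      rw [← hg']; group
    rcases D.forms (⟨g, hgS⟩ : (S : Subgroup G))⁻¹ with ⟨j, e⟩ | ⟨j, e⟩ <;> rw [e] at hg''
    · rw [D.conj_P_P] at hg''
      exact D.P_ne_q _ _ hg''
    · rw [D.conj_q_P] at hg''
      exact D.P_ne_q _ _ hg''
  obtain ⟨K, hKn, hK2, -⟩ := ThreePoint.exists_index_two S (D.half 0) (D.index_half 0)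
    fun a b ⟨g, hg⟩ => ⟨QuasiDihedralClasses.half_zero_fus D hQ (isConj_iff.2 ⟨g, hg⟩),
      QuasiDihedralClasses.half_zero_fus D hQ (isConj_iff.2 ⟨g, hg⟩).symm⟩
  rcases hKn.eq_bot_or_eq_top with e | e
  · rw [e, Subgroup.index_bot] at hK2
    have := three_primes_of_not_solvable hns
    rw [hK2, Nat.Prime.primeFactors Nat.prime_two] at this
    simp at this
  · rw [e, Subgroup.index_top] at hK2
    omega

theorem P5.case_four (h : P5 G) [IsSimpleGroup G] (hns : ¬ Group.IsSolvable G) (T : Subgroup G)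
    (hsq : ∀ t ∈ T, t * t = 1) (h4 : Nat.card T = 4)
    (hC : Subgroup.centralizer (T : Set G) ≤ T) : Nat.card G = 168 := by
  classical
  haveI : Fact (Nat.Prime 2) := ⟨Nat.prime_two⟩
  obtain ⟨S, hTS⟩ := (IsPGroup.of_card (n := 2) (show Nat.card T = 2 ^ 2 by rw [h4]; norm_num)).exists_le_sylow
  haveI : Nontrivial (S : Subgroup G) := by
    rw [← Finite.one_lt_card_iff_nontrivial]
    have := Subgroup.card_le_of_le hTS
    omega
  haveI := S.2.center_nontrivial
  obtain ⟨z₀, hz₀⟩ := exists_prime_orderOf_dvd_card' (G := Subgroup.center (S : Subgroup G)) 2 (by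
    obtain ⟨k, hk⟩ := IsPGroup.iff_card.mp (S.2.to_subgroup (Subgroup.center (S : Subgroup G)))
    rw [hk]
    refine dvd_pow_self 2 fun h0 => ?_
    rw [h0, pow_zero] at hk
    have := Finite.one_lt_card (α := Subgroup.center (S : Subgroup G))
    omega)
  set z : G := ((z₀ : (S : Subgroup G)) : G) with hz
  have hzo : orderOf z = 2 := by rw [hz, Subgroup.orderOf_coe, Subgroup.orderOf_coe, hz₀]
  have hzc : ∀ s ∈ (S : Subgroup G), s * z = z * s := fun s hs =>
    congrArg Subtype.val (Subgroup.mem_center_iff.mp z₀.2 ⟨s, hs⟩)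
  have hzT : z ∈ T := hC (Subgroup.mem_centralizer_iff.mpr fun t ht => hzc t (hTS ht))
  have hCS : Subgroup.centralizer ({z} : Set G) = (S : Subgroup G) :=
    S.is_maximal' (h.centralizer_two hzo) fun s hs => Subgroup.mem_centralizer_singleton_iff.mpr (hzc s hs)
  by_cases hS4 : Nat.card (S : Subgroup G) ≤ 4
  · exact h.of_small_centralizer hns (w := z) (by rw [hCS]; exact hS4)
  haveI : Fintype T := Fintype.ofFinite _
  obtain ⟨v, hv1, hvz⟩ : ∃ v : T, v ≠ 1 ∧ v ≠ ⟨z, hzT⟩ := by
    by_contra hall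
    push Not at hall
    have : (Finset.univ : Finset T) ⊆ {1, ⟨z, hzT⟩} := fun t _ => by
      by_cases ht : t = 1
      · simp [ht]
      · simp [hall t ht]
    have := (Finset.card_le_card this).trans Finset.card_le_two
    rw [Finset.card_univ, ← Nat.card_eq_fintype_card] at this
    omega
  set x : (S : Subgroup G) := ⟨(v : G), hTS v.2⟩ with hx
  have hzx : z ≠ v := fun e => hvz (Subtype.ext e.symm)
  have hsmall : Nat.card (Subgroup.centralizer ({x} : Set (S : Subgroup G))) ≤ 4 := by
    rw [← h4]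
    refine Nat.card_le_card_of_injective (fun c => (⟨((c : (S : Subgroup G)) : G), ?_⟩ : T))
      fun c d e => ?_
    · refine hC (Subgroup.mem_centralizer_iff.mpr fun t ht => ?_)
      set c' : G := ((c : (S : Subgroup G)) : G)
      have hcv : c' * v = v * c' :=
        congrArg Subtype.val (Subgroup.mem_centralizer_singleton_iff.mp c.2)
      have hle : T ≤ Subgroup.centralizer ({c'} : Set G) := by
        have hcz : c' * z = z * c' := hzc c' c.1.2
        have hd : Nat.card ↥(T ⊓ Subgroup.centralizer ({c'} : Set G)) ∣ 4 :=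
          h4 ▸ Subgroup.card_dvd_of_le inf_le_left
        haveI : Fintype ↥(T ⊓ Subgroup.centralizer ({c'} : Set G)) := Fintype.ofFinite _
        have h3 : 2 < Nat.card ↥(T ⊓ Subgroup.centralizer ({c'} : Set G)) := by
          rw [Nat.card_eq_fintype_card, Fintype.two_lt_card_iff]
          refine ⟨1, ⟨z, hzT, Subgroup.mem_centralizer_singleton_iff.mpr hcz.symm⟩,
            ⟨v, v.2, Subgroup.mem_centralizer_singleton_iff.mpr hcv.symm⟩, ?_, ?_, ?_⟩
          · intro e
            have e' : (1 : G) = z := congrArg Subtype.val e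
            rw [← e', orderOf_one] at hzo
            omega
          · intro e
            exact hv1 (Subtype.ext (congrArg Subtype.val e).symm)
          · intro e
            exact hzx (congrArg Subtype.val e)
        have hle4 := Nat.le_of_dvd (by norm_num) hd
        have : Nat.card ↥(T ⊓ Subgroup.centralizer ({c'} : Set G)) = 4 := by
          interval_cases Nat.card ↥(T ⊓ Subgroup.centralizer ({c'} : Set G)) <;> omega
        exact inf_eq_left.mp (Subgroup.eq_of_le_of_card_ge inf_le_left (by rw [this, h4]))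
      exact Subgroup.mem_centralizer_singleton_iff.mp (hle ht)
    · exact Subtype.ext (Subtype.ext (congrArg (fun t : T => (t : G)) e))
  rcases CentFour.structure_of_small_centralizer S.2 x hsmall with h' | ⟨m, a, y, ha, hcard, hy, hcase⟩
  · exact absurd h' hS4
  have hai : (Subgroup.zpowers a).index = 2 := by
    have := (Subgroup.zpowers a).card_mul_index
    rw [Nat.card_zpowers, ha, hcard, pow_succ 2 (m + 2)] at this
    exact Nat.eq_of_mul_eq_mul_left (by positivity) this
  rcases hcase with ⟨hc, hy2⟩ | ⟨hc, hy2⟩ | ⟨hm, hc, hy2⟩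
  · obtain ⟨f, hf, -, -⟩ := Classical.CyclicExt.exists_dihedral_hom a y ha hy2 hc hy
    haveI : NeZero (2 ^ (m + 2)) := ⟨by positivity⟩
    have hbij : Function.Bijective f :=
      (Nat.bijective_iff_injective_and_card f).mpr ⟨hf, by
        rw [DihedralGroup.nat_card, hcard, pow_succ' 2 (m + 2)]⟩
    have hO : (Cfsg.oddCore (Subgroup.centralizer ({z} : Set G))).map
        (Subgroup.centralizer ({z} : Set G)).subtype = ⊥ := by
      have hbot : Cfsg.oddCore (Subgroup.centralizer ({z} : Set G)) = ⊥ := by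
        rw [← Subgroup.card_eq_one]
        obtain ⟨k, hk⟩ := IsPGroup.iff_card.mp
          ((h.centralizer_two hzo).to_subgroup (Cfsg.oddCore (Subgroup.centralizer ({z} : Set G))))
        have hodd := Cores.oddCore_odd (G := Subgroup.centralizer ({z} : Set G))
        rw [hk] at hodd ⊢
        rcases k with _ | k
        · rfl
        · simp [pow_succ, Nat.odd_mul] at hodd
          exact absurd hodd (by simp)
      rw [hbot, Subgroup.map_bot]
    have htop : Subgroup.centralizer ((⊥ : Subgroup G) : Set G) = ⊤ :=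
      (Subgroup.eq_top_iff' _).mpr fun g => Subgroup.mem_centralizer_iff.mpr fun b hb => by
        rw [Subgroup.mem_bot.mp hb, one_mul, mul_one]
    obtain ⟨F, _, _, -, ⟨e⟩⟩ := S0508.result S (2 ^ (m + 2))
      (le_trans (by norm_num) (Nat.pow_le_pow_right (by norm_num : 0 < 2) (show 1 ≤ m + 2 by omega)))
      ⟨(MulEquiv.ofBijective f hbij).symm⟩ z hzo z₀.1.2 hzc ⊥ hO.symm
      (fun e => absurd rfl e) (fun s _ hs => absurd (htop ▸ Subgroup.mem_top s) hs)
      (fun Y hY hY1 => absurd (le_bot_iff.mp hY) hY1)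
    exact h.psl_card hns e
  · exfalso
    have ha2 : a ^ 2 ^ (m + 2) = 1 := ha ▸ pow_orderOf_eq_one a
    have huniq : ∀ w : (S : Subgroup G), w ≠ 1 → w * w = 1 → w = a ^ 2 ^ (m + 1) := by
      intro w hw1 hw2
      by_cases hwa : w ∈ Subgroup.zpowers a
      · obtain ⟨i, rfl⟩ := mem_powers_iff_mem_zpowers.2 hwa
        have hd := orderOf_dvd_of_pow_eq_one (show a ^ (i + i) = 1 by rw [pow_add]; exact hw2)
        rw [ha, ← two_mul, pow_succ' 2 (m + 1)] at hd
        obtain ⟨k, rfl⟩ := Nat.dvd_of_mul_dvd_mul_left (by norm_num) hd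
        show a ^ (2 ^ (m + 1) * k) = a ^ 2 ^ (m + 1)
        rcases Nat.even_or_odd k with ⟨l, rfl⟩ | ⟨l, rfl⟩
        · exfalso; apply hw1
          show a ^ (2 ^ (m + 1) * (l + l)) = 1
          rw [show 2 ^ (m + 1) * (l + l) = 2 ^ (m + 2) * l by ring, pow_mul, ha2, one_pow]
        · rw [show 2 ^ (m + 1) * (2 * l + 1) = 2 ^ (m + 2) * l + 2 ^ (m + 1) by ring, pow_add,
            pow_mul, ha2, one_pow, one_mul]
      · exfalso
        obtain ⟨i, hi⟩ : y⁻¹ * w ∈ Subgroup.zpowers a := (Subgroup.mul_mem_iff_of_index_two hai).2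
          (iff_of_false (fun h => hy (by simpa using inv_mem h)) hwa)
        simp only at hi
        have hw' : w = y * a ^ i := by rw [hi, mul_inv_cancel_left]
        have hcy : y * a ^ i * y⁻¹ = (a ^ i)⁻¹ := by rw [← conj_zpow, hc, inv_zpow]
        have : w * w = y * y := by
          calc w * w = (y * a ^ i * y⁻¹) * (y * y) * a ^ i := by rw [hw']; group
            _ = y * y := by
              rw [hcy, hy2, ← zpow_natCast, mul_assoc, ← zpow_add, ← zpow_neg, ← zpow_add]
              congr 1; ring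
        rw [hw2, hy2] at this
        have := orderOf_dvd_of_pow_eq_one this.symm
        rw [ha, Nat.pow_dvd_pow_iff_le_right (by norm_num)] at this
        omega
    have hx1 : x ≠ 1 := fun e => hv1 (Subtype.ext (congrArg (fun s : (S : Subgroup G) => (s : G)) e))
    have hx2 : x * x = 1 := Subtype.ext (hsq _ v.2)
    have hz1 : (z₀ : (S : Subgroup G)) ≠ 1 := fun e => by
      have e' : z = 1 := congrArg Subtype.val e
      rw [e', orderOf_one] at hzo
      omega
    have hz2 : (z₀ : (S : Subgroup G)) * z₀ = 1 := Subtype.ext (hsq _ hzT)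
    exact hzx (congrArg Subtype.val ((huniq _ hz1 hz2).trans (huniq _ hx1 hx2).symm))
  · exfalso
    refine h.not_quasiDihedral S ⟨m + 2, by omega, by rw [hcard], a, y, ha, ?_, ?_⟩ hns
    · exact orderOf_eq_prime (by rw [pow_two]; exact hy2) fun e => hy (by rw [e]; exact one_mem _)
    · rw [hc, show m + 2 - 1 = m + 1 by omega]

end Cfsg.Agent.OrdTwoPrime
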