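import Cfsg.Agent.Lib.OrdTwoPrime.Strong
import Cfsg.Agent.S0518

/-!
# A non-solvable group with these element orders is simple of order 168
-/

set_option autoImplicit false
set_option linter.all false

namespace Cfsg.Agent.OrdTwoPrime

open Subgroup

universe u

/-- The regular four-group inside the symmetric group of degree four. -/
def IsV (g : Equiv.Perm (Fin 4)) : Prop := g * g = 1 ∧ (g = 1 ∨ ∀ i, g i ≠ i)

instance : DecidablePred IsV := fun g => by unfold IsV; infer_instance

set_option maxRecDepth 20000 in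
theorem perm_four_outside : ∀ g : Equiv.Perm (Fin 4), g ^ 8 = 1 → ¬ IsV g →
    ∃ c : Equiv.Perm (Fin 4), (g * (c * g * c⁻¹)) ^ 3 = 1 ∧ g * (c * g * c⁻¹) ≠ 1 := by decide

set_option maxRecDepth 20000 in
theorem perm_four_conj : ∀ g h : Equiv.Perm (Fin 4), IsV g → g ≠ 1 → IsV h → h ≠ 1 →
    ∃ c : Equiv.Perm (Fin 4), c * g * c⁻¹ = h := by decide

set_option maxRecDepth 20000 in
theorem perm_four_centralizer : ∀ g : Equiv.Perm (Fin 4), (∀ h, IsV h → g * h = h * g) → IsV g := by
  decide

set_option maxRecDepth 20000 in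
theorem perm_four_card : Fintype.card {g : Equiv.Perm (Fin 4) // IsV g} = 4 := by decide

theorem mem_iff_isV {A : Subgroup (Equiv.Perm (Fin 4))} [A.Normal] (hA : IsPGroup 2 A) (hA1 : A ≠ ⊥)
    (g : Equiv.Perm (Fin 4)) : g ∈ A ↔ IsV g := by
  have h24 : Nat.card (Equiv.Perm (Fin 4)) = 24 := by
    rw [Nat.card_eq_fintype_card, Fintype.card_perm, Fintype.card_fin]; rfl
  have hsub : ∀ x ∈ A, IsV x := by
    intro x hx
    by_contra hV
    have h8 : x ^ 8 = 1 := by
      obtain ⟨k, hk⟩ := IsPGroup.iff_orderOf.mp hA ⟨x, hx⟩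
      rw [Subgroup.orderOf_mk] at hk
      have hd : orderOf x ∣ 24 := h24 ▸ orderOf_dvd_natCard x
      have hk3 : k ≤ 3 := by
        by_contra hlt
        have : 2 ^ 4 ∣ 24 := (pow_dvd_pow 2 (by omega : 4 ≤ k)).trans (hk ▸ hd)
        norm_num at this
      rw [← orderOf_dvd_iff_pow_eq_one, hk]
      exact (pow_dvd_pow 2 hk3 : 2 ^ k ∣ 2 ^ 3)
    obtain ⟨c, hc3, hc1⟩ := perm_four_outside x h8 hV
    haveI : Fact (Nat.Prime 3) := ⟨by norm_num⟩
    have hm : x * (c * x * c⁻¹) ∈ A := mul_mem hx ((inferInstance : A.Normal).conj_mem x hx c)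
    obtain ⟨k, hk⟩ := IsPGroup.iff_orderOf.mp hA ⟨_, hm⟩
    rw [Subgroup.orderOf_mk, orderOf_eq_prime hc3 hc1] at hk
    have := (Nat.prime_dvd_prime_iff_eq Nat.prime_three Nat.prime_two).mp
      (Nat.prime_three.dvd_of_dvd_pow (dvd_of_eq hk))
    omega
  refine ⟨hsub g, fun hg => ?_⟩
  by_cases h1 : g = 1
  · rw [h1]; exact one_mem _
  obtain ⟨a, ha, ha1⟩ : ∃ a ∈ A, a ≠ (1 : Equiv.Perm (Fin 4)) := by
    by_contra hall
    push Not at hall
    exact hA1 (A.eq_bot_iff_forall.mpr hall)
  obtain ⟨c, rfl⟩ := perm_four_conj a g (hsub a ha) ha1 hg h1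
  exact (inferInstance : A.Normal).conj_mem a ha c

variable {G : Type u} [Group G] [Finite G]

/-- A maximal 2-local subgroup `S₄` yields a self-centralizing four-group. -/
theorem exists_four (H : Subgroup G) (hH : H = ⊤) (M : Subgroup H) (hM : Cfsg.IsTwoLocal M)
    (e : M ≃* Equiv.Perm (Fin 4)) :
    ∃ T : Subgroup G, (∀ t ∈ T, t * t = 1) ∧ Nat.card T = 4 ∧ Subgroup.centralizer (T : Set G) ≤ T := by
  obtain ⟨T₀, hT2, hT1, hMT⟩ := hM
  have hTM : T₀ ≤ M := hMT ▸ Subgroup.le_normalizer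
  haveI : (T₀.subgroupOf M).Normal :=
    (Subgroup.normal_subgroupOf_iff_le_normalizer hTM).mpr (le_of_eq hMT)
  set A := (T₀.subgroupOf M).map e.toMonoidHom with hA
  haveI : A.Normal := Subgroup.Normal.map inferInstance _ e.surjective
  have hAcard : Nat.card A = Nat.card T₀ := by
    rw [hA, Subgroup.card_map_of_injective e.injective,
      Nat.card_congr (Subgroup.subgroupOfEquivOfLe hTM).toEquiv]
  have hA1 : A ≠ ⊥ := fun h' => hT1 (Subgroup.eq_bot_of_card_eq _ (by rw [← hAcard, h', Subgroup.card_bot]))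
  have hA2 : IsPGroup 2 A := by
    haveI : Fact (Nat.Prime 2) := ⟨Nat.prime_two⟩
    obtain ⟨k, hk⟩ := IsPGroup.iff_card.mp hT2
    exact IsPGroup.of_card (hAcard.trans hk)
  have hmem : ∀ (m : H) (hm : m ∈ M), m ∈ T₀ ↔ IsV (e ⟨m, hm⟩) := by
    intro m hm
    rw [← mem_iff_isV hA2 hA1, hA]
    exact (Subgroup.mem_map_iff_mem e.injective (K := T₀.subgroupOf M)
      (x := (⟨m, hm⟩ : M))).symm
  refine ⟨T₀.map H.subtype, ?_, ?_, ?_⟩
  · rintro _ ⟨t, ht, rfl⟩
    have h1 := ((hmem t (hTM ht)).mp ht).1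
    rw [← map_mul, MulEquiv.map_eq_one_iff] at h1
    exact congrArg (fun v : M => ((v : H) : G)) h1
  · rw [Subgroup.card_map_of_injective H.subtype_injective, ← hAcard]
    exact (Nat.card_congr (Equiv.subtypeEquivRight fun g => mem_iff_isV hA2 hA1 g)).trans
      (Nat.card_eq_fintype_card.trans perm_four_card)
  · intro g hg
    have hgH : g ∈ H := hH ▸ Subgroup.mem_top g
    have hc : (⟨g, hgH⟩ : H) ∈ Subgroup.centralizer (T₀ : Set H) :=
      Subgroup.mem_centralizer_iff.mpr fun t ht =>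
        Subtype.ext (Subgroup.mem_centralizer_iff.mp hg (t : G) ⟨t, ht, rfl⟩)
    have hgM : (⟨g, hgH⟩ : H) ∈ M := hMT ▸ Subgroup.centralizer_le_normalizer (G := H) (T₀ : Set H) hc
    refine ⟨⟨g, hgH⟩, (hmem _ hgM).mpr (perm_four_centralizer _ fun v hv => ?_), rfl⟩
    obtain ⟨⟨x, hxM⟩, rfl⟩ := e.surjective v
    rw [← map_mul, ← map_mul]
    exact congrArg e (Subtype.ext (Subgroup.mem_centralizer_iff.mp hc x ((hmem x hxM).mpr hv)).symm)

theorem P5.case_simple (h : P5 G) [IsSimpleGroup G] (hns : ¬ Group.IsSolvable G)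
    (IH : ∀ H : Subgroup G, H ≠ ⊤ → ¬ Group.IsSolvable H → Concl H) : Nat.card G = 168 := by
  haveI : Fact (Nat.Prime 2) := ⟨Nat.prime_two⟩
  have hnc : ¬ IsCyclic G := fun hcy => hns (by
    letI := IsCyclic.commGroup (α := G)
    infer_instance)
  have hnot2 : ¬ IsPGroup 2 G := fun hp => hns (by
    haveI := hp.isNilpotent
    infer_instance)
  have hO : Cfsg.pCore 2 G = ⊥ := by
    refine (IsSimpleGroup.eq_bot_or_eq_top_of_normal (Cfsg.pCore 2 G) inferInstance).resolve_right fun e => ?_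
    exact hnot2 ((Cores.pCore_eq_top_iff 2).mp e)
  have heven : Even (Nat.card G) := by
    obtain ⟨E, hE⟩ := S0204.result hnc
    rw [even_iff_two_dvd]
    exact (by norm_num [hE.card_four] : 2 ∣ Nat.card E).trans E.card_subgroup_dvd_card
  have hL : Cfsg.IsCharacteristicTwoType G := by
    refine ⟨heven, fun T hT hT1 => ?_⟩
    set N := normalizer (T : Set G)
    have hTN : T ≤ N := Subgroup.le_normalizer
    show Subgroup.centralizer (Cfsg.pCore 2 N : Set N) ≤ Cfsg.pCore 2 N
    haveI : (T.subgroupOf N).Normal := Subgroup.normal_in_normalizer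
    have hle : T.subgroupOf N ≤ Cfsg.pCore 2 N :=
      Cores.le_pCore (hT.comap_of_injective N.subtype N.subtype_injective)
    obtain ⟨⟨x, hxT⟩, hx⟩ := exists_prime_orderOf_dvd_card' (G := T) 2 (by
      obtain ⟨k, hk⟩ := IsPGroup.iff_card.mp hT
      rw [hk]
      refine dvd_pow_self 2 fun h0 => hT1 ?_
      exact Subgroup.eq_bot_of_card_eq _ (by rw [hk, h0, pow_zero]))
    rw [Subgroup.orderOf_mk] at hx
    refine Cores.le_pCore (((h.sub N).centralizer_two (t := ⟨x, hTN hxT⟩)
      (by rw [Subgroup.orderOf_mk]; exact hx)).to_le fun c hc => ?_)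
    exact Subgroup.mem_centralizer_singleton_iff.mpr (Subgroup.mem_centralizer_iff.mp hc _ (hle hxT)).symm
  have hN : ∀ N : Subgroup G, Cfsg.IsTwoLocal N → Group.IsSolvable N := by
    rintro N ⟨T, hT, hT1, rfl⟩
    by_contra hs
    have hne : normalizer (T : Set G) ≠ ⊤ := fun e => by
      rcases (Subgroup.normalizer_eq_top_iff.mp e).eq_bot_or_eq_top with e' | e'
      · exact hT1 e'
      · exact hnot2 (fun g => by
          obtain ⟨k, hk⟩ := hT ⟨g, e' ▸ Subgroup.mem_top g⟩
          exact ⟨k, congrArg Subtype.val hk⟩)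
    have hc := IH _ hne hs
    haveI := hc.1
    set N := normalizer (T : Set G)
    have hTN : T ≤ N := Subgroup.le_normalizer
    have hn : (T.subgroupOf N).Normal := Subgroup.normal_in_normalizer
    rcases hn.eq_bot_or_eq_top with e | e
    · refine hT1 (T.eq_bot_iff_forall.mpr fun t ht => ?_)
      have : (⟨t, hTN ht⟩ : N) ∈ T.subgroupOf N := ht
      rw [e, Subgroup.mem_bot] at this
      exact congrArg Subtype.val this
    · have hp := hT.comap_of_injective N.subtype N.subtype_injective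
      obtain ⟨k, hk⟩ := IsPGroup.iff_card.mp hp
      rw [show Subgroup.comap N.subtype T = ⊤ from e, Subgroup.card_top, hc.2] at hk
      have := (Nat.prime_dvd_prime_iff_eq Nat.prime_three Nat.prime_two).mp
        (Nat.prime_three.dvd_of_dvd_pow (hk ▸ (by norm_num : 3 ∣ 168)))
      omega
  have hZ : ∀ S : Sylow 2 G,
      Subgroup.centralizer {z : G | z ∈ (S : Subgroup G) ∧ z ^ 2 = 1 ∧ ∀ s ∈ (S : Subgroup G), s * z = z * s} ≤
        Subgroup.normalizer ((S : Subgroup G) : Set G) := by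
    intro S
    haveI : Nontrivial (S : Subgroup G) := ((S : Subgroup G).nontrivial_iff_ne_bot).mpr
      (S.ne_bot_of_dvd_card (even_iff_two_dvd.mp heven))
    haveI := S.2.center_nontrivial
    obtain ⟨z₀, hz₀⟩ := exists_prime_orderOf_dvd_card' (G := Subgroup.center (S : Subgroup G)) 2 (by
      obtain ⟨k, hk⟩ := IsPGroup.iff_card.mp (S.2.to_subgroup (Subgroup.center (S : Subgroup G)))
      rw [hk]
      refine dvd_pow_self 2 fun h0 => ?_
      rw [h0, pow_zero] at hk
      have := Finite.one_lt_card (α := Subgroup.center (S : Subgroup G))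
      omega)
    set z : G := ((z₀ : (S : Subgroup G)) : G) with hz
    have hzo : orderOf z = 2 := by rw [hz, Subgroup.orderOf_coe, Subgroup.orderOf_coe, hz₀]
    have hzc : ∀ s ∈ (S : Subgroup G), s * z = z * s := fun s hs =>
      congrArg Subtype.val (Subgroup.mem_center_iff.mp z₀.2 ⟨s, hs⟩)
    have hCS : Subgroup.centralizer ({z} : Set G) = (S : Subgroup G) :=
      S.is_maximal' (h.centralizer_two hzo) fun s hs => Subgroup.mem_centralizer_singleton_iff.mpr (hzc s hs)
    intro c hc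
    refine Subgroup.le_normalizer ?_
    rw [← hCS, Subgroup.mem_centralizer_singleton_iff]
    exact (Subgroup.mem_centralizer_iff.mp hc z ⟨(z₀ : (S : Subgroup G)).2,
      by rw [← hzo, pow_orderOf_eq_one], hzc⟩).symm
  have hH : (⊤ : Subgroup G) = Subgroup.closure {g : G | Odd (orderOf g)} := by
    have hn : (Subgroup.closure {g : G | Odd (orderOf g)}).Normal := ⟨fun n hn g => by
      refine Subgroup.closure_induction
        (p := fun x _ => g * x * g⁻¹ ∈ Subgroup.closure {g : G | Odd (orderOf g)})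
        (fun x hx => Subgroup.subset_closure ?_) (by simp) (fun x y _ _ hx hy => ?_) (fun x _ hx => ?_) hn
      · show Odd (orderOf (g * x * g⁻¹))
        rw [Involutions.Basic.orderOf_conj]
        exact hx
      · rw [show g * (x * y) * g⁻¹ = (g * x * g⁻¹) * (g * y * g⁻¹) by group]
        exact mul_mem hx hy
      · rw [show g * x⁻¹ * g⁻¹ = (g * x * g⁻¹)⁻¹ by group]
        exact inv_mem hx⟩
    refine (hn.eq_bot_or_eq_top.resolve_left fun e => hnot2 ?_).symm
    refine IsPGroup.of_card (n := (Nat.card G).primeFactorsList.length) ?_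
    refine Nat.eq_prime_pow_of_unique_prime_dvd Nat.card_pos.ne' ?_
    intro q hq hqd
    haveI := Fact.mk hq
    by_contra hq2
    obtain ⟨g, hg⟩ := exists_prime_orderOf_dvd_card' (G := G) q hqd
    have : g ∈ Subgroup.closure {g : G | Odd (orderOf g)} :=
      Subgroup.subset_closure (show Odd (orderOf g) by rw [hg]; exact hq.odd_of_ne_two hq2)
    rw [e, Subgroup.mem_bot] at this
    rw [this, orderOf_one] at hg
    exact hq.one_lt.ne hg
  rcases S0518.result hL hO hN hZ ⊤ hH with ⟨K, hK⟩ | ⟨M₁, M₂, -, hM₁, -, ⟨e⟩, -, -⟩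
  · exact h.case_strong hns IH K hK
  · obtain ⟨T, h1, h2, h3⟩ := exists_four ⊤ rfl M₁ hM₁.1 e
    exact h.case_four hns T h1 h2 h3

theorem P5.main : ∀ (n : ℕ) (G : Type u) [Group G] [Finite G], Nat.card G = n → P5 G →
    ¬ Group.IsSolvable G → Concl G := by
  intro n
  induction n using Nat.strong_induction_on with
  | _ n ih =>
  intro G _ _ hn h hns
  haveI : Nontrivial G := by
    rw [← not_subsingleton_iff_nontrivial]
    exact fun hs => hns inferInstance
  by_cases hN : ∃ N : Subgroup G, N.Normal ∧ N ≠ ⊥ ∧ N ≠ ⊤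
  · exfalso
    obtain ⟨N, hNn, hN1, hNt⟩ := hN
    haveI := hNn
    have hlt : Nat.card N < n := hn ▸ lt_of_le_of_ne N.card_le_card_group
      fun e => hNt (Subgroup.eq_top_of_card_eq _ e)
    by_cases hs : Group.IsSolvable N
    · haveI := hs
      haveI : Nontrivial N := (N.nontrivial_iff_ne_bot).mpr hN1
      obtain ⟨q, hq, hqne⟩ := S1475.exists_pCore_ne_bot (G := N)
      haveI := Fact.mk hq
      set R := Cfsg.pCore q G with hR
      have hR1 : R ≠ ⊥ := fun e => hqne ((Subgroup.map_eq_bot_iff_of_injective _ N.subtype_injective).mp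
        (le_bot_iff.mp (e ▸ Cores.map_pCore_subtype_le q N)))
      have hRp : IsPGroup q R := Cores.pCore_isPGroup q
      haveI : Group.IsSolvable R := by
        haveI := hRp.isNilpotent
        infer_instance
      have hq' : ¬ Group.IsSolvable (G ⧸ R) := fun hs' =>
        hns ((Group.isSolvable_iff_subgroup_quotient R).mpr ⟨inferInstance, hs'⟩)
      have hlt' : Nat.card (G ⧸ R) < n := by
        rw [← hn, ← Subgroup.index_eq_card, ← R.card_mul_index]
        haveI : Nontrivial R := (R.nontrivial_iff_ne_bot).mpr hR1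
        exact lt_mul_of_one_lt_left (Nat.pos_of_ne_zero Subgroup.index_ne_zero_of_finite) Finite.one_lt_card
      exact hR1 (h.bot_of_normal_pgroup R hRp (ih _ hlt' _ rfl (h.quot R) hq'))
    · exact hNt (h.top_of_normal N (ih _ hlt _ rfl (h.sub N) hs))
  · push Not at hN
    haveI : IsSimpleGroup G :=
      ⟨fun N hNn => (em (N = ⊥)).imp_right fun hN1 => hN N hNn hN1⟩
    exact ⟨inferInstance, h.case_simple hns fun H hH hHs =>
      ih _ (hn ▸ lt_of_le_of_ne H.card_le_card_group fun e => hH (Subgroup.eq_top_of_card_eq _ e))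
        _ rfl (h.sub H) hHs⟩

end Cfsg.Agent.OrdTwoPrime
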