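import Cfsg.Agent.Lib.OrdTwoPrime.Basic
import Cfsg.Agent.Lib.SelfThree.Main
import Cfsg.Agent.S0204

/-!
# Normal subgroups: reduction to the simple case
-/

set_option autoImplicit false
set_option linter.all false

namespace Cfsg.Agent.OrdTwoPrime

open Subgroup Cfsg.Agent.SelfThree

universe u

variable {G : Type u} [Group G]

/-- A Frobenius group of order 21 inside a simple group of order 168. -/
theorem exists_frob {N : Type*} [Group N] [Finite N] (hc : Concl N) :
    ∃ z y : N, orderOf z = 7 ∧ orderOf y = 3 ∧ y * z * y⁻¹ = z * z := by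
  haveI := hc.1
  haveI : Fact (Nat.Prime 7) := ⟨by norm_num⟩
  haveI : Fact (Nat.Prime 3) := ⟨by norm_num⟩
  obtain ⟨e⟩ := Cfsg.Agent.S0495.result (G := N) hc.2 (F := ZMod 7) (ZMod.card 7)
  let π : SLSeven →* N := e.symm.toMonoidHom.comp (QuotientGroup.mk' _)
  have hnon : ∀ {m g : SLSeven}, g * m ≠ m * g → π m ≠ 1 := fun hh h' =>
    notMem_center_of_ne hh ((QuotientGroup.eq_one_iff _).1 (e.symm.map_eq_one_iff.1 h'))
  refine ⟨π sevenU, π sevenH, orderOf_eq_prime (by rw [← map_pow, sevenU_pow, map_one]) (hnon sevenU_ne),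
    orderOf_eq_prime (by rw [← map_pow, sevenH_pow, map_one]) (hnon sevenH_ne), ?_⟩
  have := congrArg π seven_rel
  rw [map_mul, map_inv, map_mul, map_mul, map_mul, map_inv, map_one] at this
  exact eq_of_mul_inv_eq_one this

theorem P5.top_of_normal [Finite G] (h : P5 G) (N : Subgroup G) [N.Normal] (hc : Concl N) :
    N = ⊤ := by
  haveI : Fact (Nat.Prime 7) := ⟨by norm_num⟩
  haveI : Fact (Nat.Prime 3) := ⟨by norm_num⟩
  obtain ⟨⟨z, hzN⟩, ⟨y, hyN⟩, hz, hy, hrel⟩ := exists_frob hc
  rw [Subgroup.orderOf_mk] at hz hy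
  replace hrel : y * z * y⁻¹ = z * z := congrArg Subtype.val hrel
  have hcN : ∀ w : G, w ∈ Subgroup.zpowers z → w ≠ 1 → ∀ c ∈ N, Commute c w →
      c ∈ Subgroup.zpowers z := by
    intro w hw hw1 c hcN hcw
    have hwo : orderOf w = 7 := by
      refine orderOf_eq_prime ?_ hw1
      obtain ⟨i, rfl⟩ := hw
      show (z ^ i) ^ 7 = 1
      rw [← zpow_natCast (z ^ i), ← zpow_mul, mul_comm, zpow_mul, zpow_natCast, ← hz,
        pow_orderOf_eq_one, one_zpow]
    have hle : Subgroup.zpowers z ≤ N ⊓ Subgroup.centralizer ({w} : Set G) := by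
      rw [Subgroup.zpowers_le]
      refine ⟨hzN, Subgroup.mem_centralizer_singleton_iff.mpr ?_⟩
      obtain ⟨i, rfl⟩ := hw
      exact ((Commute.refl z).zpow_right i).eq
    obtain ⟨k, hk⟩ := IsPGroup.iff_card.mp ((h.centralizer hwo).to_le
      (inf_le_right : N ⊓ Subgroup.centralizer ({w} : Set G) ≤ _))
    have hd : 7 ^ k ∣ 168 := hk ▸ hc.2 ▸ Subgroup.card_dvd_of_le inf_le_left
    have hk1 : k ≤ 1 := by
      by_contra hlt
      have : 7 ^ 2 ∣ 168 := (pow_dvd_pow 7 (by omega)).trans hd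
      norm_num at this
    have heq : Subgroup.zpowers z = N ⊓ Subgroup.centralizer ({w} : Set G) := by
      refine Subgroup.eq_of_le_of_card_ge hle ?_
      rw [hk, Nat.card_zpowers, hz]
      calc 7 ^ k ≤ 7 ^ 1 := Nat.pow_le_pow_right (by norm_num) hk1
        _ = 7 := pow_one 7
    rw [heq]
    exact ⟨hcN, Subgroup.mem_centralizer_singleton_iff.mpr hcw.eq⟩
  -- the normalizer of a Sylow 7-subgroup of `N` lies in `N`
  have hnor : Subgroup.normalizer ((Subgroup.zpowers z : Subgroup G) : Set G) ≤ N := by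
    intro g hg
    have hgz : g * z * g⁻¹ ∈ Subgroup.zpowers z :=
      (Subgroup.mem_normalizer_iff.mp hg z).mp (Subgroup.mem_zpowers z)
    obtain ⟨k, hk7, hk⟩ : ∃ k : ℕ, k < 7 ∧ z ^ k = g * z * g⁻¹ := by
      obtain ⟨k, hk⟩ := mem_powers_iff_mem_zpowers.mpr hgz
      exact ⟨k % 7, Nat.mod_lt _ (by norm_num), by rw [← hz, pow_mod_orderOf]; exact hk⟩
    set w := g * z * g⁻¹ with hw
    have hw1 : w ≠ 1 := fun e => by
      have : z = 1 := by simpa [hw] using e
      simp [this] at hz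
    have hyw : y * w * y⁻¹ = w * w := by
      rw [← hk, ← conj_pow, hrel, ← pow_two, ← pow_mul, ← pow_add]
      congr 1; ring
    set c := g * y * g⁻¹ * y⁻¹ with hcdef
    have hcN' : c ∈ N := mul_mem ((inferInstance : N.Normal).conj_mem y hyN g) (inv_mem hyN)
    have hcw : Commute c w := by
      have h1 : g * y * g⁻¹ * w * (g * y * g⁻¹)⁻¹ = w * w := by
        calc g * y * g⁻¹ * w * (g * y * g⁻¹)⁻¹ = g * (y * z * y⁻¹) * g⁻¹ := by rw [hw]; group
          _ = w * w := by rw [hrel, hw]; group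
      have h2 : c * (w * w) * c⁻¹ = w * w := by
        conv_lhs => rw [← hyw]
        rw [hcdef]
        calc g * y * g⁻¹ * y⁻¹ * (y * w * y⁻¹) * (g * y * g⁻¹ * y⁻¹)⁻¹
            = g * y * g⁻¹ * w * (g * y * g⁻¹)⁻¹ := by group
          _ = w * w := h1
      have hw7 : w ^ 7 = 1 := by rw [hw, conj_pow, ← hz, pow_orderOf_eq_one]; group
      have h3 : w = (w * w) ^ 4 := by
        rw [← pow_two, ← pow_mul, show 2 * 4 = 7 + 1 by norm_num, pow_add, hw7, one_mul, pow_one]
      rw [h3]
      exact Commute.pow_right (mul_inv_eq_iff_eq_mul.mp h2) 4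
    obtain ⟨j, hj⟩ := hcN w hgz hw1 c hcN' hcw
    simp only at hj
    have hyz : ∀ i : ℤ, y * z ^ i = z ^ (2 * i) * y := fun i => by
      have : y * z ^ i * y⁻¹ = z ^ (2 * i) := by
        rw [← conj_zpow, hrel, ← pow_two, ← zpow_natCast z 2, ← zpow_mul]; rfl
      rw [← this]; group
    set g₁ := z ^ j * g with hg₁
    have hg₁y : Commute g₁ y := by
      show g₁ * y = y * g₁
      have hgy : g * y = z ^ j * y * g := by rw [hj, hcdef]; group
      calc g₁ * y = z ^ j * (g * y) := by rw [hg₁, mul_assoc]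
        _ = z ^ (2 * j) * y * g := by rw [hgy, two_mul, zpow_add]; group
        _ = y * g₁ := by rw [← hyz, hg₁, mul_assoc]
    have hg₁z : g₁ * z * g₁⁻¹ = z ^ k := by
      rw [hg₁]
      calc z ^ j * g * z * (z ^ j * g)⁻¹ = z ^ j * w * (z ^ j)⁻¹ := by rw [hw]; group
        _ = z ^ k := by rw [← hk, (((Commute.refl z).pow_right k).zpow_left j).eq, mul_inv_cancel_right]
    have hg3 : g₁ ^ 3 = 1 := h.pow_eq_one_of_commute (by norm_num) hy hg₁y
    have hiter : ∀ (u : G) (a : ℕ), u * z * u⁻¹ = z ^ a → ∀ n : ℕ, u ^ n * z * (u ^ n)⁻¹ = z ^ a ^ n := by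
      intro u a hu n
      induction n with
      | zero => simp
      | succ n ih =>
        rw [pow_succ', mul_inv_rev]
        calc u * u ^ n * z * ((u ^ n)⁻¹ * u⁻¹) = u * (u ^ n * z * (u ^ n)⁻¹) * u⁻¹ := by group
          _ = (u * z * u⁻¹) ^ a ^ n := by rw [ih, conj_pow]
          _ = z ^ a ^ (n + 1) := by rw [hu, ← pow_mul, ← pow_succ']
    have hcube := hiter g₁ k hg₁z 3
    rw [hg3] at hcube
    have hk3 : k ^ 3 % 7 = 1 := by
      have h1 : z ^ (k ^ 3) = z ^ 1 := by rw [← hcube]; simp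
      have h2 := pow_inj_mod.mp h1
      rwa [hz] at h2
    obtain ⟨a, ha⟩ : ∃ a : ℕ, k = 2 ^ a % 7 := by
      interval_cases k
      all_goals first
        | exact ⟨0, rfl⟩
        | exact ⟨1, rfl⟩
        | exact ⟨2, rfl⟩
        | exact absurd hk3 (by decide)
    have hya := hiter y 2 (by rw [hrel, pow_two]) a
    set g₂ := (y ^ a)⁻¹ * g₁ with hg₂
    have hg₂z : Commute g₂ z := by
      refine mul_inv_eq_iff_eq_mul.mp ?_
      calc g₂ * z * g₂⁻¹ = (y ^ a)⁻¹ * (g₁ * z * g₁⁻¹) * y ^ a := by rw [hg₂]; group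
        _ = z := by
          rw [hg₁z, ha, ← hz, pow_mod_orderOf, ← hya]
          group
    have hg₂y : Commute g₂ y := ((Commute.refl y).pow_left a).inv_left.mul_left hg₁y
    have h1 : g₂ = 1 :=
      h.eq_one_of_commute (by norm_num : Nat.Prime 3) (by norm_num : Nat.Prime 7) (by norm_num) hz hg₂z
        (h.pow_eq_one_of_commute (by norm_num) hy hg₂y)
    have h2 : g₁ = y ^ a := by rwa [hg₂, inv_mul_eq_one, eq_comm] at h1
    have h3 : g = (z ^ j)⁻¹ * y ^ a := by rw [← h2, hg₁]; group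
    rw [h3]
    exact mul_mem (inv_mem (zpow_mem hzN _)) (pow_mem hyN a)
  obtain ⟨P, hP⟩ : ∃ P : Sylow 7 N, (P : Subgroup N) = Subgroup.zpowers (⟨z, hzN⟩ : N) := by
    refine ⟨Sylow.ofCard (Subgroup.zpowers (⟨z, hzN⟩ : N)) ?_, Sylow.coe_ofCard _ _⟩
    rw [Nat.card_zpowers, Subgroup.orderOf_mk, hz, hc.2]
    rw [show (168 : ℕ) = 7 ^ 1 * 24 by norm_num,
      Nat.factorization_mul (by norm_num) (by norm_num), Finsupp.add_apply,
      Nat.Prime.factorization_pow (by norm_num), Finsupp.single_eq_same,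
      Nat.factorization_eq_zero_of_not_dvd (by norm_num : ¬ 7 ∣ 24)]
    norm_num
  have htop := Sylow.normalizer_sup_eq_top P
  rw [hP, MonoidHom.map_zpowers] at htop
  rw [← htop]
  exact (sup_eq_right.mpr hnor).symm

/-- A Frobenius group of order 21 has no fixed-point-free action on an elementary abelian 2-group. -/
theorem fpf_frob {M Q : Type*} [CommGroup M] [Group Q] (ρ : Q →* MulAut M) (hM : ∀ x : M, x * x = 1)
    (hfix : ∀ (q : Q) (p : ℕ), (p = 3 ∨ p = 7) → orderOf q = p → ∀ x, ρ q x = x → x = 1)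
    {z y : Q} (hz : orderOf z = 7) (hy : orderOf y = 3) (hrel : y * z * y⁻¹ = z * z) (x : M) :
    x = 1 := by
  haveI : Fact (Nat.Prime 3) := ⟨by norm_num⟩
  have hz7 : z ^ 7 = 1 := hz ▸ pow_orderOf_eq_one z
  have hnorm : ∀ u : M, ∏ i ∈ Finset.range 7, ρ (z ^ i) u = 1 := by
    intro u
    refine hfix z 7 (Or.inr rfl) hz _ ?_
    rw [map_prod]
    simp only [Finset.prod_range_succ, Finset.prod_range_zero, one_mul,
      ← MulAut.mul_apply, ← map_mul, ← pow_succ', hz7]
    simp only [pow_zero, map_one, MulAut.one_apply]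
    ac_rfl
  have hg : ∀ i : ℕ, orderOf (z ^ i * y) = 3 := by
    intro i
    have hyz : ∀ n : ℕ, y * z ^ n = z ^ (2 * n) * y := fun n => by
      have : y * z ^ n * y⁻¹ = z ^ (2 * n) := by rw [← conj_pow, hrel, ← pow_two, ← pow_mul]
      rw [← this]; group
    refine orderOf_eq_prime ?_ fun e => ?_
    · rw [pow_succ, pow_two]
      calc z ^ i * y * (z ^ i * y) * (z ^ i * y) = z ^ i * (y * z ^ i) * (y * z ^ i) * y := by group
        _ = z ^ i * z ^ (2 * i) * (y * z ^ (2 * i)) * (y * y) := by rw [hyz]; group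
        _ = z ^ i * z ^ (2 * i) * z ^ (2 * (2 * i)) * y ^ 3 := by rw [hyz, pow_succ, pow_two]; group
        _ = 1 := by
          rw [← pow_add, ← pow_add, show i + 2 * i + 2 * (2 * i) = 7 * i by ring, pow_mul, hz7,
            one_pow, one_mul, ← hy, pow_orderOf_eq_one]
    · have hyc : y = (z ^ i)⁻¹ := eq_inv_of_mul_eq_one_right e
      rw [hyc] at hrel
      have : z = z * z := by
        rw [← hrel]
        rw [((Commute.refl z).pow_left i).inv_left.eq, mul_inv_cancel_right]
      rw [left_eq_mul] at this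
      simp [this] at hz
  have hv : ∀ i : ℕ, x * ρ (z ^ i * y) x * ρ ((z ^ i * y) ^ 2) x = 1 := by
    intro i
    refine hfix _ 3 (Or.inl rfl) (hg i) _ ?_
    rw [map_mul, map_mul]
    simp only [← MulAut.mul_apply, ← map_mul, ← pow_two]
    rw [← pow_succ', show 2 + 1 = 3 by norm_num, ← hg i, pow_orderOf_eq_one, map_one,
      MulAut.one_apply]
    simp only [map_pow]
    ac_rfl
  have hsq : ∀ i : ℕ, (z ^ i * y) ^ 2 = z ^ (3 * i % 7) * (y * y) := by
    intro i
    have : y * z ^ i * y⁻¹ = z ^ (2 * i) := by rw [← conj_pow, hrel, ← pow_two, ← pow_mul]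
    calc (z ^ i * y) ^ 2 = z ^ i * (y * z ^ i * y⁻¹) * (y * y) := by rw [pow_two]; group
      _ = z ^ (3 * i) * (y * y) := by rw [this, ← pow_add]; congr 2; ring
      _ = _ := by rw [← hz, pow_mod_orderOf]
  have hprod : ∏ i ∈ Finset.range 7, (x * ρ (z ^ i * y) x * ρ ((z ^ i * y) ^ 2) x) = 1 :=
    Finset.prod_eq_one fun i _ => hv i
  simp only [hsq, map_mul, MulAut.mul_apply] at hprod
  rw [Finset.prod_mul_distrib, Finset.prod_mul_distrib, hnorm, Finset.prod_const,
    Finset.card_range, mul_one] at hprod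
  have h2 : ∏ i ∈ Finset.range 7, ρ (z ^ (3 * i % 7)) (ρ y (ρ y x)) = 1 := by
    rw [← hnorm (ρ y (ρ y x))]
    simp only [Finset.prod_range_succ, Finset.prod_range_zero, one_mul, Nat.reduceMul, Nat.reduceMod]
    ac_rfl
  rw [h2, mul_one] at hprod
  calc x = x * (x * x) * (x * x) * (x * x) := by rw [hM, mul_one, mul_one, mul_one]
    _ = x ^ 7 := by simp only [pow_succ, pow_zero, one_mul]; ac_rfl
    _ = 1 := hprod

theorem P5.bot_of_normal_pgroup [Finite G] (h : P5 G) {q : ℕ} [hq : Fact q.Prime] (R : Subgroup G)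
    [R.Normal] (hR : IsPGroup q R) (hc : Concl (G ⧸ R)) : R = ⊥ := by
  classical
  haveI : Fact (Nat.Prime 2) := ⟨Nat.prime_two⟩
  haveI := hc.1
  set π := QuotientGroup.mk' R with hπ
  by_cases hq2 : q = 2
  · subst hq2
    by_contra hR1
    haveI : Nontrivial R := (R.nontrivial_iff_ne_bot).mpr hR1
    haveI := hR.center_nontrivial
    haveI : ((Subgroup.center R).map R.subtype).Normal := Cores.normal_map_subtype R _
    set Z := (Subgroup.center R).map R.subtype with hZ
    have hcomm : ∀ a ∈ Z, ∀ b ∈ R, a * b = b * a := by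
      rintro _ ⟨a, ha, rfl⟩ b hb
      exact (congrArg Subtype.val (Subgroup.mem_center_iff.mp ha ⟨b, hb⟩)).symm
    have hZR : Z ≤ R := by rw [hZ]; exact Subgroup.map_subtype_le _
    let M : Subgroup G :=
      { carrier := {x | x ∈ Z ∧ x * x = 1}
        one_mem' := ⟨one_mem _, mul_one 1⟩
        mul_mem' := fun {a b} ha hb => ⟨mul_mem ha.1 hb.1, by
          have hab : a * b = b * a := hcomm a ha.1 b (hZR hb.1)
          rw [mul_assoc, ← mul_assoc b, ← hab, mul_assoc a b b, hb.2, mul_one, ha.2]⟩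
        inv_mem' := fun {a} ha => ⟨inv_mem ha.1, by rw [← mul_inv_rev, ha.2, inv_one]⟩ }
    haveI : M.Normal := ⟨fun a ha g => ⟨(inferInstance : Z.Normal).conj_mem a ha.1 g, by
      calc g * a * g⁻¹ * (g * a * g⁻¹) = g * (a * a) * g⁻¹ := by group
        _ = 1 := by rw [ha.2]; group⟩⟩
    letI : CommGroup M :=
      { (inferInstance : Group M) with
        mul_comm := fun a b => Subtype.ext (hcomm a a.2.1 b (hZR b.2.1)) }
    have hker : R ≤ (MulAut.conjNormal : G →* MulAut M).ker := fun r hr => by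
      rw [MonoidHom.mem_ker]
      refine MulEquiv.ext fun a => Subtype.ext ?_
      rw [MulAut.conjNormal_apply, MulAut.one_apply, ← hcomm a a.2.1 r hr, mul_inv_cancel_right]
    let ρ : G ⧸ R →* MulAut M := QuotientGroup.lift R MulAut.conjNormal hker
    obtain ⟨z, y, hz, hy, hrel⟩ := exists_frob hc
    obtain ⟨e, he⟩ : ∃ e : Subgroup.center R, orderOf e = 2 := by
      refine exists_prime_orderOf_dvd_card' 2 ?_
      obtain ⟨k, hk⟩ := IsPGroup.iff_card.mp (hR.to_subgroup (Subgroup.center R))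
      rw [hk]
      refine dvd_pow_self 2 fun h0 => ?_
      rw [h0, pow_zero] at hk
      have := Finite.one_lt_card (α := Subgroup.center R)
      omega
    have he2 : ((e : R) : G) * ((e : R) : G) = 1 := by
      have : e * e = 1 := by rw [← pow_two, ← he, pow_orderOf_eq_one]
      exact congrArg (fun v : Subgroup.center R => ((v : R) : G)) this
    let x : M := ⟨((e : R) : G), ⟨(e : R), e.2, rfl⟩, he2⟩
    have hx1 : x = 1 := by
      refine fpf_frob ρ (fun a => Subtype.ext a.2.2) ?_ hz hy hrel x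
      intro g p hp hgo a hga
      obtain ⟨g, rfl⟩ := QuotientGroup.mk'_surjective R g
      have hpp : p.Prime := by rcases hp with rfl | rfl <;> norm_num
      have hp2 : p ≠ 2 := by rcases hp with rfl | rfl <;> norm_num
      have hd : p ∣ orderOf g := hgo ▸ orderOf_map_dvd _ g
      have ho := h.orderOf_eq hpp hp2 hd
      have hga' : g * (a : G) * g⁻¹ = a := congrArg Subtype.val hga
      by_contra ha1
      have hao : orderOf (a : G) = 2 := orderOf_eq_prime
        (by rw [pow_two]; exact a.2.2) (fun e => ha1 (Subtype.ext e))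
      have := h.eq_one_of_commute_involution hao hpp hp2 ⟨1, by rw [pow_one, ← ho, pow_orderOf_eq_one]⟩
        (mul_inv_eq_iff_eq_mul.mp hga')
      rw [this, orderOf_one] at ho
      exact hpp.ne_one ho.symm
    have : e = 1 := Subtype.ext (Subtype.ext (show ((e : R) : G) = 1 from congrArg Subtype.val hx1))
    simp [this] at he
  · have hnc : ¬ IsCyclic (G ⧸ R) := fun hcy => by
      haveI := hcy
      exact not_solvable_of_concl hc (by
        letI := IsCyclic.commGroup (α := G ⧸ R)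
        infer_instance)
    obtain ⟨E, hE⟩ := S0204.result (G := G ⧸ R) hnc
    set H := E.comap π with hH
    obtain ⟨P⟩ : Nonempty (Sylow 2 H) := inferInstance
    set P' := (P : Subgroup H).map H.subtype with hP'
    have hinj : ∀ g ∈ P', π g = 1 → g = 1 := by
      rintro _ ⟨g, hg, rfl⟩ hg1
      have hgR : (g : G) ∈ R := (QuotientGroup.eq_one_iff _).mp hg1
      obtain ⟨a, ha⟩ := IsPGroup.iff_orderOf.mp P.2 ⟨g, hg⟩
      obtain ⟨b, hb⟩ := IsPGroup.iff_orderOf.mp hR ⟨g, hgR⟩
      simp only [Subgroup.orderOf_mk] at ha hb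
      rw [← Subgroup.orderOf_coe, hb] at ha
      refine orderOf_eq_one_iff.mp ?_
      show orderOf ((g : H) : G) = 1
      rw [hb]
      exact Nat.eq_one_of_dvd_coprimes (((Nat.coprime_primes hq.out Nat.prime_two).mpr hq2).pow b a)
        (dvd_refl _) (dvd_of_eq ha)
    have h4 : 4 ∣ Nat.card P' := by
      rw [hP', Subgroup.card_map_of_injective H.subtype_injective]
      have h4H : 2 ^ 2 ∣ Nat.card H := by
        rw [show (2 : ℕ) ^ 2 = Nat.card E by rw [hE.card_four]; norm_num]
        exact Subgroup.card_dvd_of_surjective (π.subgroupComap E)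
          (MonoidHom.subgroupComap_surjective_of_surjective _ _ (QuotientGroup.mk'_surjective R))
      rw [P.card_eq_multiplicity]
      exact (pow_dvd_pow 2 ((Nat.Prime.pow_dvd_iff_le_factorization Nat.prime_two
        Nat.card_pos.ne').mp h4H))
    have hsq : ∀ g ∈ P', g * g = 1 := fun g hg => hinj _ (mul_mem hg hg) (by
      have hgH : g ∈ H := by obtain ⟨g', -, rfl⟩ := hg; exact g'.2
      have hge : π g ∈ E := hgH
      have h2 : (⟨π g, hge⟩ : E) ^ 2 = 1 := by rw [← hE.exponent_two]; exact Monoid.pow_exponent_eq_one _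
      rw [map_mul, ← pow_two]
      exact congrArg Subtype.val h2)
    have hcom : ∀ g ∈ P', ∀ k ∈ P', g * k = k * g := fun g hg k hk => by
      have h1 : g⁻¹ = g := inv_eq_of_mul_eq_one_right (hsq g hg)
      have h2 : k⁻¹ = k := inv_eq_of_mul_eq_one_right (hsq k hk)
      have h3 : (g * k)⁻¹ = g * k := inv_eq_of_mul_eq_one_right (hsq _ (mul_mem hg hk))
      rw [mul_inv_rev, h1, h2] at h3
      exact h3.symm
    haveI : Fintype P' := Fintype.ofFinite _
    obtain ⟨s, hs1⟩ : ∃ s : P', s ≠ 1 := Fintype.exists_ne_of_one_lt_card (by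
      rw [← Nat.card_eq_fintype_card]; exact lt_of_lt_of_le (by norm_num) (Nat.le_of_dvd Nat.card_pos h4)) 1
    obtain ⟨t, ht1, hts⟩ : ∃ t : P', t ≠ 1 ∧ t ≠ s := by
      by_contra hall
      push Not at hall
      have : (Finset.univ : Finset P') ⊆ {1, s} := fun t _ => by
        by_cases ht : t = 1
        · simp [ht]
        · simp [hall t ht]
      have := (Finset.card_le_card this).trans Finset.card_le_two
      rw [Finset.card_univ, ← Nat.card_eq_fintype_card] at this
      have := Nat.le_of_dvd Nat.card_pos h4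
      omega
    refine h.eq_bot_of_four (s := (s : G)) (t := (t : G)) ?_ ?_ (hcom _ s.2 _ t.2)
      (fun e => hts (Subtype.ext e.symm)) hq2 hR ?_ ?_
    · exact orderOf_eq_prime (by rw [pow_two]; exact hsq _ s.2) (fun e => hs1 (Subtype.ext e))
    · exact orderOf_eq_prime (by rw [pow_two]; exact hsq _ t.2) (fun e => ht1 (Subtype.ext e))
    all_goals (rw [Subgroup.normalizer_eq_top_iff.mpr inferInstance]; exact Subgroup.mem_top _)

end Cfsg.Agent.OrdTwoPrime
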