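import Cfsg.Agent.Lib.OrdTwoPrime.Four
import Cfsg.Agent.Lib.OrdTwoPrime.Normal
import Cfsg.Agent.Lib.Involutions.StronglyEmbedded
import Cfsg.Agent.S0340
import Cfsg.Agent.S1224
import Cfsg.Agent.S1225

/-!
# A strongly embedded subgroup
-/

set_option autoImplicit false
set_option linter.all false

namespace Cfsg.Agent.OrdTwoPrime

open Subgroup Cfsg.Agent.SelfThree Cfsg.Agent.Involutions

universe u

/-- An element of `SL₂(7)` of order eight. -/
def strongW : SLSeven := sevenMat 0 6 1 3 (by decide)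

theorem strongW_facts : strongW ^ 4 = sevenZ ∧
    sevenU * (strongW * strongW) ≠ strongW * strongW * sevenU := by decide

theorem seven_center {c : SLSeven} (hc : c ∈ Subgroup.center SLSeven) :
    c = 1 ∨ c = sevenZ := by
  obtain ⟨r, hr, hs⟩ := Matrix.SpecialLinearGroup.mem_center_iff.mp hc
  simp only [Fintype.card_fin] at hr
  have hr' : r = 1 ∨ r = 6 := by clear hs hc; revert hr; revert r; decide
  rcases hr' with rfl | rfl
  · refine Or.inl (Subtype.ext ?_)
    rw [← hs]
    ext i j
    fin_cases i <;> fin_cases j <;> simp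
  · refine Or.inr (Subtype.ext ?_)
    rw [← hs]
    ext i j
    fin_cases i <;> fin_cases j <;> simp [sevenZ, sevenMat]
theorem seven_entry_mul (p q : SLSeven) (i j : Fin 2) : (p * q) i j = p i 0 * q 0 j + p i 1 * q 1 j := by
  rw [Matrix.SpecialLinearGroup.coe_mul, Matrix.mul_apply, Fin.sum_univ_two]
theorem strongW_entries : strongW 0 0 = 0 ∧ strongW 0 1 = 6 ∧ strongW 1 0 = 1 ∧ strongW 1 1 = 3 ∧
    sevenZ 0 0 = 6 ∧ sevenZ 0 1 = 0 ∧ sevenZ 1 0 = 0 ∧ sevenZ 1 1 = 6 := by decide
theorem strongW_case1 (m : SLSeven) (e1 : m * strongW = strongW * m) : m 0 1 = - m 1 0 ∧ m 1 1 = m 0 0 + 3 * m 1 0 := by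
  have a : (m * strongW) 0 0 = (strongW * m) 0 0 := by rw [e1]
  have b : (m * strongW) 1 0 = (strongW * m) 1 0 := by rw [e1]
  obtain ⟨w00, w01, w10, w11, -⟩ := strongW_entries
  rw [seven_entry_mul, seven_entry_mul, w00, w01, w10] at a
  rw [seven_entry_mul, seven_entry_mul, w00, w10, w11] at b
  have h6 : (6 : ZMod 7) = -1 := by decide
  rw [h6] at a
  exact ⟨by linear_combination a, by linear_combination b⟩
theorem strongW_case2 (m : SLSeven) (hd : m 0 0 * m 1 1 - m 0 1 * m 1 0 = 1) (e1 : m * strongW = sevenZ * (strongW * m)) : False := by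
  have a : (m * strongW) 0 0 = (sevenZ * (strongW * m)) 0 0 := by rw [e1]
  have b : (m * strongW) 1 0 = (sevenZ * (strongW * m)) 1 0 := by rw [e1]
  have c : (m * strongW) 1 1 = (sevenZ * (strongW * m)) 1 1 := by rw [e1]
  have d : (m * strongW) 0 1 = (sevenZ * (strongW * m)) 0 1 := by rw [e1]
  obtain ⟨w00, w01, w10, w11, z00, z01, z10, z11⟩ := strongW_entries
  simp only [seven_entry_mul, w00, w01, w10, w11, z00, z01, z10, z11, mul_zero, zero_mul, zero_add, add_zero,
    mul_one, one_mul] at a b c d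
  revert hd a b c d
  generalize m 0 0 = x, m 0 1 = y, m 1 0 = z, m 1 1 = w
  intro hd a b c d
  subst a b
  revert hd c d
  revert x z
  decide

theorem seven_conic :
    Nat.card {q : ZMod 7 × ZMod 7 // q.1 ^ 2 + 3 * q.1 * q.2 + q.2 ^ 2 = 1} = 8 := by
  rw [Nat.card_eq_fintype_card]; decide

variable {G : Type u} [Group G] [Finite G]

theorem P5.strong_nonsolvable (h : P5 G) [IsSimpleGroup G] (hns : ¬ Group.IsSolvable G)
    {K : Subgroup G} (hK : Cfsg.IsStronglyEmbedded K) (hc : Concl K) : Nat.card G = 168 := by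
  classical
  haveI := hc.1
  haveI : Fact (Nat.Prime 7) := ⟨by norm_num⟩
  obtain ⟨e⟩ := Cfsg.Agent.S0495.result (G := K) hc.2 (F := ZMod 7) (ZMod.card 7)
  let π : SLSeven →* K := e.symm.toMonoidHom.comp (QuotientGroup.mk' _)
  have hsurj : Function.Surjective π := e.symm.surjective.comp (QuotientGroup.mk'_surjective _)
  have hker : ∀ m, π m = 1 ↔ m ∈ Subgroup.center SLSeven := fun m =>
    e.symm.map_eq_one_iff.trans (QuotientGroup.eq_one_iff _)
  set wK : K := π strongW with hwK
  have hw2 : orderOf ((wK * wK : K) : G) = 2 := by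
    rw [Subgroup.orderOf_coe]
    refine orderOf_eq_prime ?_ fun e1 => ?_
    · rw [hwK, ← map_mul, ← map_pow, hker, ← pow_two, ← pow_mul, strongW_facts.1]
      exact sevenZ_mem
    · rw [hwK, ← map_mul, hker] at e1
      exact strongW_facts.2 (Subgroup.mem_center_iff.mp e1 sevenU)
  refine h.of_small_centralizer hns (w := (wK : G)) ?_
  let C := Subgroup.centralizer ({wK} : Set K)
  have hCK : Nat.card (Subgroup.centralizer ({(wK : G)} : Set G)) ≤ Nat.card C := by
    have hmem : ∀ g : Subgroup.centralizer ({(wK : G)} : Set G), (g : G) ∈ K := fun g => by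
      refine StronglyEmbedded.mem_of_commute hK (wK * wK).2 hw2 ?_
      have hg : Commute (g : G) wK := Subgroup.mem_centralizer_singleton_iff.mp g.2
      exact hg.mul_right hg
    refine Nat.card_le_card_of_injective
      (fun g => (⟨⟨(g : G), hmem g⟩, Subgroup.mem_centralizer_singleton_iff.mpr
        (Subtype.ext (Subgroup.mem_centralizer_singleton_iff.mp g.2))⟩ : C)) ?_
    intro a b hab
    exact Subtype.ext (congrArg (fun c : C => ((c : K) : G)) hab)
  refine hCK.trans ?_
  -- every element above `C` commutes with `W` in `SL₂(7)`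
  have hcom : ∀ m : SLSeven, π m ∈ C → m 0 1 = - m 1 0 ∧ m 1 1 = m 0 0 + 3 * m 1 0 := by
    intro m hm
    have hd : m 0 0 * m 1 1 - m 0 1 * m 1 0 = 1 := by
      rw [← Matrix.det_fin_two]; exact m.2
    have h1 : π (m * strongW * (strongW * m)⁻¹) = 1 := by
      rw [map_mul, map_inv, map_mul, map_mul, ← hwK, mul_inv_eq_one]
      exact Subgroup.mem_centralizer_singleton_iff.mp hm
    rcases seven_center ((hker _).mp h1) with e1 | e1
    · rw [mul_inv_eq_one] at e1
      exact strongW_case1 m e1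
    · rw [mul_inv_eq_iff_eq_mul] at e1
      exact (strongW_case2 m hd e1).elim
  choose lift hlift using hsurj
  let f : C × Bool → SLSeven := fun cb => if cb.2 then lift cb.1 * sevenZ else lift cb.1
  have hZ1 : π sevenZ = 1 := (hker _).mpr sevenZ_mem
  have hfπ : ∀ cb, π (f cb) = cb.1 := by
    rintro ⟨c, b⟩
    cases b
    · exact hlift _
    · show π (lift c * sevenZ) = _
      rw [map_mul, hZ1, mul_one, hlift]
  have hfd : ∀ cb, (f cb 0 0) ^ 2 + 3 * f cb 0 0 * f cb 1 0 + (f cb 1 0) ^ 2 = 1 := by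
    intro cb
    obtain ⟨h01, h11⟩ := hcom (f cb) (by rw [hfπ]; exact cb.1.2)
    have hd : f cb 0 0 * f cb 1 1 - f cb 0 1 * f cb 1 0 = 1 := by
      rw [← Matrix.det_fin_two]; exact (f cb).2
    rw [h01, h11] at hd
    linear_combination hd
  let g : C × Bool → {q : ZMod 7 × ZMod 7 // q.1 ^ 2 + 3 * q.1 * q.2 + q.2 ^ 2 = 1} :=
    fun cb => ⟨(f cb 0 0, f cb 1 0), hfd cb⟩
  have hg : Function.Injective g := by
    intro a b hab
    have h00 : f a 0 0 = f b 0 0 := congrArg (fun q => (Subtype.val q).1) hab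
    have h10 : f a 1 0 = f b 1 0 := congrArg (fun q => (Subtype.val q).2) hab
    obtain ⟨a01, a11⟩ := hcom (f a) (by rw [hfπ]; exact a.1.2)
    obtain ⟨b01, b11⟩ := hcom (f b) (by rw [hfπ]; exact b.1.2)
    have hf : f a = f b := by
      ext i j
      fin_cases i <;> fin_cases j
      · exact h00
      · exact a01.trans (by rw [h10]; exact b01.symm)
      · exact h10
      · exact a11.trans (by rw [h00, h10]; exact b11.symm)
    have hab1 : a.1 = b.1 := Subtype.ext (by rw [← hfπ a, ← hfπ b, hf])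
    have hZne : sevenZ ≠ 1 := by decide
    obtain ⟨a, i⟩ := a
    obtain ⟨b, j⟩ := b
    simp only at hab1
    subst hab1
    cases i <;> cases j <;> simp [f] at hf ⊢
    · exact hZne hf
    · exact hZne hf
  have := Nat.card_le_card_of_injective g hg
  rw [Nat.card_prod, Nat.card_eq_fintype_card (α := Bool), Fintype.card_bool, seven_conic] at this
  omega

theorem exponent_one {p a n : ℕ} (hp2 : Odd p) (hp : 2 ≤ p) (hn : 2 ≤ n)
    (h : p ^ a + 1 = 2 ^ n) : a = 1 := by
  have h4 : 4 ∣ 2 ^ n := (pow_dvd_pow 2 hn : 2 ^ 2 ∣ 2 ^ n)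
  rcases Nat.even_or_odd a with ⟨b, rfl⟩ | ha
  · exfalso
    obtain ⟨c, hc⟩ : Odd (p ^ b) := hp2.pow
    rw [pow_add, hc] at h
    have : (2 * c + 1) * (2 * c + 1) = 4 * (c * c + c) + 1 := by ring
    omega
  · set S : ℤ := ∑ i ∈ Finset.range a, (-(p : ℤ)) ^ i with hS
    have hmul : S * ((p : ℤ) + 1) = 2 ^ n := by
      have := geom_sum_mul (-(p : ℤ)) a
      rw [← hS, ha.neg_pow] at this
      have h' : ((p : ℤ)) ^ a + 1 = 2 ^ n := by exact_mod_cast h
      linear_combination h' - this
    have hodd : (S : ZMod 2) = 1 := by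
      have hp' : (p : ZMod 2) = 1 := ZMod.natCast_eq_one_iff_odd.mpr hp2
      rw [hS]
      push_cast
      simp only [hp', ZMod.neg_eq_self_mod_two, one_pow, Finset.sum_const, Finset.card_range,
        nsmul_eq_mul, mul_one]
      exact ZMod.natCast_eq_one_iff_odd.mpr ha
    have hcast : ((p : ℤ) + 1).natAbs = p + 1 := Int.natAbs_natCast (p + 1)
    have hd : S.natAbs ∣ 2 ^ n := by
      refine ⟨p + 1, ?_⟩
      have := congrArg Int.natAbs hmul
      rw [Int.natAbs_mul, hcast, Int.natAbs_pow] at this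
      exact this.symm
    obtain ⟨k, -, hk⟩ := (Nat.dvd_prime_pow Nat.prime_two).mp hd
    have hk0 : k = 0 := by
      by_contra hne
      have h2 : (2 : ℤ) ∣ S := by
        rw [← Int.natAbs_dvd_natAbs, hk]
        exact dvd_pow_self 2 hne
      have := (ZMod.intCast_zmod_eq_zero_iff_dvd S 2).mpr h2
      rw [hodd] at this
      exact one_ne_zero this
    rw [hk0, pow_zero] at hk
    have heq : p + 1 = 2 ^ n := by
      have := congrArg Int.natAbs hmul
      rw [Int.natAbs_mul, hcast, hk, one_mul, Int.natAbs_pow] at this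
      exact this
    have : p ^ a = p ^ 1 := by rw [pow_one]; omega
    exact Nat.pow_right_injective hp this

/-- An involution in a normal 2-subgroup normalizes no non-trivial subgroup of odd prime power order. -/
theorem P5.eq_bot_of_normal_two {L : Type*} [Group L] [Finite L] (h : P5 L) (D : Subgroup L) [D.Normal]
    (hD : IsPGroup 2 D) {x : L} (hx : orderOf x = 2) (hxD : x ∈ D) {p : ℕ} [hp : Fact p.Prime]
    (hp2 : p ≠ 2) {P : Subgroup L} (hP : IsPGroup p P) (hxP : x ∈ normalizer (P : Set L)) : P = ⊥ := by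
  refine P.eq_bot_iff_forall.mpr fun a ha => ?_
  have h1 : x * a * x⁻¹ * a⁻¹ ∈ P := mul_mem ((Subgroup.mem_normalizer_iff.mp hxP a).mp ha) (inv_mem ha)
  have h2 : x * a * x⁻¹ * a⁻¹ ∈ D := by
    rw [show x * a * x⁻¹ * a⁻¹ = x * (a * x⁻¹ * a⁻¹) by group]
    exact mul_mem hxD ((inferInstance : D.Normal).conj_mem _ (inv_mem hxD) a)
  have hc : x * a * x⁻¹ * a⁻¹ = 1 := by
    obtain ⟨i, hi⟩ := IsPGroup.iff_orderOf.mp hP ⟨_, h1⟩
    obtain ⟨j, hj⟩ := IsPGroup.iff_orderOf.mp hD ⟨_, h2⟩
    rw [Subgroup.orderOf_mk] at hi hj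
    rw [← orderOf_eq_one_iff]
    exact Nat.eq_one_of_dvd_coprimes (((Nat.coprime_primes hp.out Nat.prime_two).mpr hp2).pow i j)
      (dvd_of_eq hi) (dvd_of_eq hj)
  obtain ⟨k, hk⟩ := hP ⟨a, ha⟩
  refine h.eq_one_of_commute_involution hx hp.out hp2 ⟨k, congrArg Subtype.val hk⟩ ?_
  show a * x = x * a
  exact (mul_inv_eq_iff_eq_mul.mp (mul_inv_eq_one.mp hc)).symm

/-- The structure of the solvable strongly embedded subgroup. -/
theorem P5.core_data {L : Type u} [Group L] [Finite L] (h : P5 L) [Group.IsSolvable L] {s t : L}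
    (hs : orderOf s = 2) (ht : orderOf t = 2) (hst : s * t = t * s) (hne : s ≠ t)
    (hconj : ∀ a b : L, orderOf a = 2 → orderOf b = 2 → ∃ k, k * a * k⁻¹ = b) :
    ∃ p d : ℕ, p.Prime ∧ p ≠ 2 ∧ Nat.card {x : L // orderOf x = 2} = p ∧ Nat.card L = p * 2 ^ d ∧
      ∀ P : Subgroup L, Nat.card P = p → ∀ x : L, orderOf x = 2 → x ∉ normalizer (P : Set L) := by
  classical
  haveI : Fact (Nat.Prime 2) := ⟨Nat.prime_two⟩
  haveI : Nontrivial L := ⟨⟨s, t, hne⟩⟩
  have hodd : ∀ (q : ℕ) [Fact q.Prime], q ≠ 2 → Cfsg.pCore q L = ⊥ := fun q _ hq2 =>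
    h.eq_bot_of_four hs ht hst hne hq2 (Cores.pCore_isPGroup q)
      (by rw [Subgroup.normalizer_eq_top_iff.mpr inferInstance]; exact Subgroup.mem_top _)
      (by rw [Subgroup.normalizer_eq_top_iff.mpr inferInstance]; exact Subgroup.mem_top _)
  obtain ⟨q, hq, hqne⟩ := S1475.exists_pCore_ne_bot (G := L)
  haveI := Fact.mk hq
  obtain rfl : q = 2 := by_contra fun hq2 => hqne (hodd q hq2)
  set D := Cfsg.pCore 2 L with hD
  have hD2 : IsPGroup 2 D := Cores.pCore_isPGroup 2
  haveI : Nontrivial D := (D.nontrivial_iff_ne_bot).mpr hqne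
  haveI := hD2.center_nontrivial
  obtain ⟨z₀, hz₀⟩ := exists_prime_orderOf_dvd_card' (G := Subgroup.center D) 2 (by
    obtain ⟨k, hk⟩ := IsPGroup.iff_card.mp (hD2.to_subgroup (Subgroup.center D))
    rw [hk]
    refine dvd_pow_self 2 fun h0 => ?_
    rw [h0, pow_zero] at hk
    have := Finite.one_lt_card (α := Subgroup.center D)
    omega)
  set z : L := ((z₀ : D) : L) with hz
  have hzo : orderOf z = 2 := by rw [hz, Subgroup.orderOf_coe, Subgroup.orderOf_coe, hz₀]
  have hzD : z ∈ D := (z₀ : D).2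
  have hzc : ∀ y ∈ D, y * z = z * y := fun y hy =>
    congrArg Subtype.val (Subgroup.mem_center_iff.mp z₀.2 ⟨y, hy⟩)
  have hDn : D.Normal := inferInstance
  have hinv : ∀ x : L, orderOf x = 2 → x ∈ D ∧ ∀ y ∈ D, y * x = x * y := by
    intro x hx
    obtain ⟨k, rfl⟩ := hconj z x hzo hx
    refine ⟨hDn.conj_mem z hzD k, fun y hy => ?_⟩
    have := hzc (k⁻¹ * y * k) (by simpa using hDn.conj_mem y hy k⁻¹)
    calc y * (k * z * k⁻¹) = k * ((k⁻¹ * y * k) * z) * k⁻¹ := by group
      _ = k * (z * (k⁻¹ * y * k)) * k⁻¹ := by rw [this]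
      _ = k * z * k⁻¹ * y := by group
  -- `D` is a Sylow 2-subgroup
  have hidx : Odd D.index := by
    rcases subsingleton_or_nontrivial (L ⧸ D) with hsub | hnt
    · rw [Subgroup.index_eq_card, Nat.card_of_subsingleton (1 : L ⧸ D)]; exact odd_one
    obtain ⟨p, hp, hpne⟩ := S1475.exists_pCore_ne_bot (G := L ⧸ D)
    haveI := Fact.mk hp
    have hp2 : p ≠ 2 := fun e => hpne (by subst e; exact Cores.pCore_quotient_self 2)
    set Q := Cfsg.pCore p (L ⧸ D) with hQ
    set N := Q.comap (QuotientGroup.mk' D) with hN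
    obtain ⟨k, hk⟩ := IsPGroup.iff_card.mp (Cores.pCore_isPGroup (G := L ⧸ D) p)
    rw [← hQ] at hk
    have hNcard : Nat.card N = Nat.card D * p ^ k := by
      rw [← hk, hN, Cores.card_comap_mk']
    have hk0 : k ≠ 0 := fun e => hpne (Subgroup.eq_bot_of_card_eq _ (by rw [hk, e, pow_zero]))
    obtain ⟨P⟩ : Nonempty (Sylow p N) := inferInstance
    have hPne : ((P : Subgroup N).map N.subtype) ≠ ⊥ := by
      rw [Ne, Subgroup.map_eq_bot_iff_of_injective _ N.subtype_injective]
      exact P.ne_bot_of_dvd_card (hNcard ▸ dvd_mul_of_dvd_right (dvd_pow_self p hk0) _)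
    set M := normalizer (((P : Subgroup N).map N.subtype : Subgroup L) : Set L) with hM
    have hMN : M ⊔ N = ⊤ := Sylow.normalizer_sup_eq_top P
    have hModd : ¬ 2 ∣ Nat.card M := fun h2 => by
      obtain ⟨⟨x, hxM⟩, hx⟩ := exists_prime_orderOf_dvd_card' (G := M) 2 h2
      rw [Subgroup.orderOf_mk] at hx
      exact hPne (h.eq_bot_of_normal_two D hD2 hx (hinv x hx).1 hp2 (P.2.map _) hxM)
    have hdvd := Cores.card_sup_dvd_mul M N
    rw [hMN, Subgroup.card_top, hNcard, ← D.card_mul_index] at hdvd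
    have : D.index ∣ Nat.card M * p ^ k := by
      rw [← mul_assoc, mul_comm (Nat.card M), mul_assoc] at hdvd
      exact Nat.dvd_of_mul_dvd_mul_left Nat.card_pos hdvd
    rw [← Nat.not_even_iff_odd, even_iff_two_dvd]
    intro h2
    rcases Nat.prime_two.dvd_mul.mp (h2.trans this) with e | e
    · exact hModd e
    · exact hp2 ((Nat.prime_dvd_prime_iff_eq Nat.prime_two hp).mp (Nat.prime_two.dvd_of_dvd_pow e)).symm
  obtain ⟨d, hd⟩ := IsPGroup.iff_card.mp hD2
  -- centralizers of involutions are equal to `D`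
  have hcen : ∀ g : L, g * z = z * g → g ∈ D := by
    intro g hg
    obtain ⟨k, hk⟩ := IsPGroup.iff_orderOf.mp (h.centralizer_two hzo)
      ⟨g, Subgroup.mem_centralizer_singleton_iff.mpr hg⟩
    rw [Subgroup.orderOf_mk] at hk
    rw [← QuotientGroup.eq_one_iff, ← orderOf_eq_one_iff]
    refine Nat.eq_one_of_dvd_coprimes ((Nat.coprime_two_left.mpr hidx).pow_left k)
      (hk ▸ orderOf_map_dvd (QuotientGroup.mk' D) g) ?_
    rw [Subgroup.index_eq_card]
    exact orderOf_dvd_natCard _
  have hm : Nat.card {x : L // orderOf x = 2} = D.index := by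
    rw [Subgroup.index_eq_card]
    have hwd : ∀ a b : L, (QuotientGroup.leftRel D).r a b → a * z * a⁻¹ = b * z * b⁻¹ := by
      intro a b hab
      have hab' : a⁻¹ * b ∈ D := QuotientGroup.leftRel_apply.mp hab
      calc a * z * a⁻¹ = a * (z * (a⁻¹ * b)) * b⁻¹ := by group
        _ = a * ((a⁻¹ * b) * z) * b⁻¹ := by rw [hzc _ hab']
        _ = b * z * b⁻¹ := by group
    let f : L ⧸ D → {x : L // orderOf x = 2} := fun q =>
      Quotient.liftOn' q (fun a => (⟨a * z * a⁻¹, by rw [Involutions.Basic.orderOf_conj, hzo]⟩ :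
        {x : L // orderOf x = 2})) fun a b hab => Subtype.ext (hwd a b hab)
    refine (Nat.card_eq_of_bijective f ⟨?_, ?_⟩).symm
    · intro a b
      obtain ⟨a, rfl⟩ := QuotientGroup.mk_surjective a
      obtain ⟨b, rfl⟩ := QuotientGroup.mk_surjective b
      intro hab
      have e : a * z * a⁻¹ = b * z * b⁻¹ := congrArg Subtype.val hab
      refine QuotientGroup.eq.mpr (hcen _ ?_)
      calc a⁻¹ * b * z = a⁻¹ * (b * z * b⁻¹) * b := by group
        _ = a⁻¹ * (a * z * a⁻¹) * b := by rw [e]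
        _ = z * (a⁻¹ * b) := by group
    · rintro ⟨x, hx⟩
      obtain ⟨k, hk⟩ := hconj z x hzo hx
      exact ⟨(k : L ⧸ D), Subtype.ext hk⟩
  -- the subgroup of elements of order at most two
  have hsq : ∀ x : L, x * x = 1 → x ∈ D ∧ ∀ y ∈ D, y * x = x * y := by
    intro x hx
    by_cases h1 : x = 1
    · subst h1; exact ⟨one_mem _, fun y _ => by simp⟩
    · exact hinv x (orderOf_eq_prime (by rw [pow_two]; exact hx) h1)
  let E : Subgroup L :=
    { carrier := {x | x * x = 1}
      one_mem' := mul_one 1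
      mul_mem' := fun {a b} ha hb => by
        have hab : a * b = b * a := (hsq b hb).2 a (hsq a ha).1
        show a * b * (a * b) = 1
        rw [mul_assoc, ← mul_assoc b, ← hab, mul_assoc a b b, show b * b = 1 from hb, mul_one,
          show a * a = 1 from ha]
      inv_mem' := fun {a} ha => show a⁻¹ * a⁻¹ = 1 by rw [← mul_inv_rev, show a * a = 1 from ha, inv_one] }
  have hE : Nat.card E = D.index + 1 := by
    rw [← hm]
    let F : Option {x : L // orderOf x = 2} → E := fun o =>
      match o with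
      | none => 1
      | some x => ⟨x.1, show x.1 * x.1 = 1 by rw [← pow_two]; exact (congrArg (x.1 ^ ·) x.2.symm).trans (pow_orderOf_eq_one x.1)⟩
    have hF : Function.Bijective F := by
      constructor
      · rintro (_ | ⟨a, ha⟩) (_ | ⟨b, hb⟩) hab
        · rfl
        · exfalso
          have e : (1 : L) = b := congrArg Subtype.val hab
          rw [← e, orderOf_one] at hb; omega
        · exfalso
          have e : a = (1 : L) := congrArg Subtype.val hab
          rw [e, orderOf_one] at ha; omega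
        · exact congrArg some (Subtype.ext (congrArg (fun v : E => (v : L)) hab))
      · rintro ⟨a, ha⟩
        by_cases h1 : a = 1
        · exact ⟨none, Subtype.ext h1.symm⟩
        · exact ⟨some ⟨a, orderOf_eq_prime (by rw [pow_two]; exact ha) h1⟩, rfl⟩
    rw [← Nat.card_eq_of_bijective F hF, Finite.card_option]
  obtain ⟨n, hn⟩ : ∃ n, Nat.card E = 2 ^ n := IsPGroup.iff_card.mp fun g => ⟨1, by
    rw [pow_one, pow_two]; exact Subtype.ext g.2⟩
  have hn2 : 2 ≤ n := by
    by_contra hlt
    have : Nat.card E ≤ 2 ^ 1 := hn ▸ Nat.pow_le_pow_right (by norm_num) (by omega)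
    have hlt2 : Fintype.card ({1, s, t} : Finset L) ≤ Nat.card E := by
      rw [← Nat.card_eq_fintype_card]
      refine Nat.card_le_card_of_injective (fun x => (⟨x.1, ?_⟩ : E)) fun a b hab =>
        Subtype.ext (congrArg (fun v : E => (v : L)) hab)
      show x.1 * x.1 = 1
      have hx := x.2
      simp only [Finset.mem_insert, Finset.mem_singleton] at hx
      rcases hx with e | e | e <;> rw [e]
      · exact mul_one 1
      · rw [← pow_two, ← hs, pow_orderOf_eq_one]
      · rw [← pow_two, ← ht, pow_orderOf_eq_one]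
    have h1s : (1 : L) ≠ s := fun e => by rw [← e, orderOf_one] at hs; omega
    have h1t : (1 : L) ≠ t := fun e => by rw [← e, orderOf_one] at ht; omega
    rw [Fintype.card_coe] at hlt2
    simp [h1s, h1t, hne] at hlt2
    omega
  have hcardL : Nat.card L = D.index * 2 ^ d := by rw [← D.card_mul_index, hd, mul_comm]
  have hm1 : D.index ≠ 1 := fun e => by
    rw [e, hn] at hE
    have : 2 ^ 2 ≤ 2 ^ n := Nat.pow_le_pow_right (by norm_num) hn2
    omega
  have hd0 : d ≠ 0 := fun e => by
    have := Finite.one_lt_card (α := D)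
    rw [hd, e] at this
    omega
  have hpp : IsPrimePow D.index := by
    rw [isPrimePow_iff_card_primeFactors_eq_one]
    have h2 := h.primes_le_two
    rw [hcardL, Nat.primeFactors_mul Subgroup.index_ne_zero_of_finite (by positivity),
      Nat.primeFactors_prime_pow hd0 Nat.prime_two] at h2
    have hdis : Disjoint D.index.primeFactors ({2} : Finset ℕ) := by
      rw [Finset.disjoint_singleton_right]
      intro hmem
      exact Nat.not_even_iff_odd.mpr hidx (even_iff_two_dvd.mpr (Nat.dvd_of_mem_primeFactors hmem))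
    rw [Finset.card_union_of_disjoint hdis, Finset.card_singleton] at h2
    have := Nat.nonempty_primeFactors.mpr (by have := Subgroup.index_ne_zero_of_finite (H := D); omega : 1 < D.index)
    have := Finset.card_pos.mpr this
    omega
  obtain ⟨p, a, hp, ha, hpa⟩ := (isPrimePow_nat_iff _).mp hpp
  have hp_odd : Odd p := (Nat.odd_pow_iff ha.ne').mp (hpa ▸ hidx)
  have ha1 : a = 1 := exponent_one hp_odd hp.two_le hn2 (by rw [hpa, ← hE, hn])
  rw [ha1, pow_one] at hpa
  refine ⟨p, d, hp, fun e => ?_, hm.trans hpa.symm, hpa ▸ hcardL, ?_⟩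
  · rw [e] at hp_odd; exact absurd hp_odd (by decide)
  · intro P hP x hx hxP
    haveI := Fact.mk hp
    have hb := h.eq_bot_of_normal_two D hD2 hx (hinv x hx).1 (fun e => by
        rw [e] at hp_odd; exact absurd hp_odd (by decide))
      (IsPGroup.of_card (n := 1) (hP.trans (pow_one p).symm)) hxP
    rw [hb, Subgroup.card_bot] at hP
    exact hp.one_lt.ne hP

theorem P5.strong_solvable (h : P5 G) [IsSimpleGroup G] (hns : ¬ Group.IsSolvable G)
    {K : Subgroup G} (hK : Cfsg.IsStronglyEmbedded K) [Group.IsSolvable K] : Nat.card G = 168 := by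
  classical
  have hnc : ¬ IsCyclic G := fun hcy => hns (by
    letI := IsCyclic.commGroup (α := G)
    infer_instance)
  obtain ⟨u, huK, hu⟩ := StronglyEmbedded.exists_involution_notMem hK
  -- two commuting involutions in `K`
  obtain ⟨s, t, hsK, htK, hs, ht, hst, hne⟩ : ∃ s t : G, s ∈ K ∧ t ∈ K ∧ orderOf s = 2 ∧ orderOf t = 2 ∧
      s * t = t * s ∧ s ≠ t := by
    obtain ⟨E, hE⟩ := S0204.result hnc
    haveI : Fintype E := Fintype.ofFinite _
    obtain ⟨a, ha⟩ : ∃ a : E, a ≠ 1 := Fintype.exists_ne_of_one_lt_card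
      (by rw [← Nat.card_eq_fintype_card, hE.card_four]; norm_num) 1
    obtain ⟨b, hb, hba⟩ : ∃ b : E, b ≠ 1 ∧ b ≠ a := by
      by_contra hall
      push Not at hall
      have : (Finset.univ : Finset E) ⊆ {1, a} := fun t _ => by
        by_cases ht : t = 1
        · simp [ht]
        · simp [hall t ht]
      have := (Finset.card_le_card this).trans Finset.card_le_two
      rw [Finset.card_univ, ← Nat.card_eq_fintype_card, hE.card_four] at this
      omega
    have hsqE : ∀ e : E, e ^ 2 = 1 := fun e => by rw [← hE.exponent_two]; exact Monoid.pow_exponent_eq_one e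
    have hord : ∀ e : E, e ≠ 1 → orderOf (e : G) = 2 := fun e he =>
      (Subgroup.orderOf_coe e).trans (orderOf_eq_prime (hsqE e) he)
    have hcomm : (a : G) * b = b * a := by
      have := hsqE (a * b)
      rw [pow_two] at this
      have hi : ∀ e : E, e⁻¹ = e := fun e => inv_eq_of_mul_eq_one_right (by rw [← pow_two]; exact hsqE e)
      have h' : a * b = b * a := by
        calc a * b = (a * b)⁻¹ := (hi _).symm
          _ = b * a := by rw [mul_inv_rev, hi, hi]
      exact congrArg Subtype.val h'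
    obtain ⟨r, hrK, hr⟩ := StronglyEmbedded.exists_involution_mem hK.2.1
    obtain ⟨g, hg⟩ := isConj_iff.mp (StronglyEmbedded.isConj_involutions hK (hord a ha) hr)
    have hbo : orderOf (g * (b : G) * g⁻¹) = 2 := by rw [Involutions.Basic.orderOf_conj, hord b hb]
    have hrb : r * (g * (b : G) * g⁻¹) = g * (b : G) * g⁻¹ * r := by
      rw [← hg]
      calc g * (a : G) * g⁻¹ * (g * b * g⁻¹) = g * ((a : G) * b) * g⁻¹ := by group
        _ = g * ((b : G) * a) * g⁻¹ := by rw [hcomm]
        _ = _ := by group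
    refine ⟨r, g * (b : G) * g⁻¹, hrK, StronglyEmbedded.mem_of_commute hK hrK hr (Commute.symm hrb), hr,
      hbo, hrb, fun e => hba (Subtype.ext ?_)⟩
    rw [← hg] at e
    exact (mul_left_cancel (mul_right_cancel e)).symm
  obtain ⟨p, d, hp, hp2, hcount, hcardK, hnorm⟩ := (h.sub K).core_data (s := ⟨s, hsK⟩) (t := ⟨t, htK⟩)
    (by rw [Subgroup.orderOf_mk]; exact hs) (by rw [Subgroup.orderOf_mk]; exact ht) (Subtype.ext hst)
    (fun e => hne (congrArg Subtype.val e)) fun a b ha hb => by
      obtain ⟨k, hk, hkab⟩ := (S1225.result K hK u hu huK a b (by rw [Subgroup.orderOf_coe]; exact ha) a.2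
        (by rw [Subgroup.orderOf_coe]; exact hb) b.2).1
      exact ⟨⟨k, hk.1⟩, Subtype.ext hkab⟩
  haveI := Fact.mk hp
  let o : G ⧸ K := ((1 : G) : G ⧸ K)
  have hstab : MulAction.stabilizer G o = K := MulAction.stabilizer_quotient K
  have hoK : ∀ g : G, g • o = o ↔ g ∈ K := fun g => by rw [← MulAction.mem_stabilizer_iff, hstab]
  have hswap : ∀ x : G ⧸ K, x ≠ o → Nat.card {i : G // orderOf i = 2 ∧ i • o = x} = p := by
    intro x hx
    rw [S1224.result K hK o x hx.symm, ← hcount]
    exact Nat.card_congr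
      { toFun := fun v => ⟨⟨v.1, v.2.2⟩, by rw [Subgroup.orderOf_mk]; exact v.2.1⟩
        invFun := fun v => ⟨(v.1 : G), by rw [Subgroup.orderOf_coe]; exact v.2, v.1.2⟩
        left_inv := fun v => rfl
        right_inv := fun v => rfl }
  let T : G ⧸ K → Subgroup G := fun x => K ⊓ MulAction.stabilizer G x
  have hT : ∀ x : G ⧸ K, x ≠ o → Nat.card (T x) = p := by
    intro x hx
    obtain ⟨⟨i, hi, hix⟩⟩ : Nonempty {i : G // orderOf i = 2 ∧ i • o = x} :=
      (Nat.card_pos_iff.mp (by rw [hswap x hx]; exact hp.pos)).1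
    have hiK : i ∉ K := fun hi' => hx (hix ▸ (hoK i).mpr hi')
    have hTeq : T x = K ⊓ K.map (MulAut.conj i).toMonoidHom := by
      show K ⊓ MulAction.stabilizer G x = _
      rw [← hix, MulAction.stabilizer_smul_eq_stabilizer_map_conj, hstab]
    have hodd := hK.2.2 i hiK
    have hdvd : Nat.card (T x) ∣ p * 2 ^ d := hcardK ▸ Subgroup.card_dvd_of_le inf_le_left
    have hdp : Nat.card (T x) ∣ p := by
      refine Nat.Coprime.dvd_of_dvd_mul_right ?_ hdvd
      rw [hTeq]
      exact (Nat.coprime_two_right.mpr hodd).pow_right d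
    refine ((Nat.dvd_prime hp).mp hdp).resolve_left fun h1 => hne ?_
    obtain ⟨k, hk, hkst⟩ := (S1225.result K hK i hi hiK s t hs hsK ht htK).1
    rw [← hTeq, Subgroup.eq_bot_of_card_eq (T x) h1, Subgroup.mem_bot] at hk
    rw [← hkst, hk]; group
  set x₀ := u • o with hx₀
  have hx₀o : x₀ ≠ o := fun e => huK ((hoK u).mp e)
  set P := T x₀ with hPdef
  have hP : Nat.card P = p := hT x₀ hx₀o
  have hPK : P ≤ K := inf_le_left
  have hPfix : ∀ a ∈ P, a • x₀ = x₀ := fun a ha => ha.2
  have hPcomm : ∀ a ∈ P, ∀ b ∈ P, a * b = b * a := by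
    intro a ha b hb
    haveI : IsCyclic P := isCyclic_of_prime_card hP
    letI := IsCyclic.commGroup (α := P)
    exact congrArg Subtype.val (mul_comm (⟨a, ha⟩ : P) ⟨b, hb⟩)
  have hPgrp : IsPGroup p P := IsPGroup.of_card (n := 1) (hP.trans (pow_one p).symm)
  set F : Set (G ⧸ K) := {x | ∀ a ∈ P, a • x = x} with hF
  have hoF : o ∈ F := fun a ha => (hoK a).mpr (hPK ha)
  have hTF : ∀ x ∈ F, x ≠ o → T x = P := fun x hx hxo => (Subgroup.eq_of_le_of_card_ge
    (fun a ha => ⟨hPK ha, hx a ha⟩ : P ≤ T x) (by rw [hT x hxo, hP])).symm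
  set N := normalizer (P : Set G) with hNdef
  have hswapN : ∀ x ∈ F, x ≠ o → ∀ i : G, orderOf i = 2 → i • o = x →
      i ∈ N ∧ ∀ a ∈ P, i * a * i⁻¹ = a⁻¹ := by
    intro x hx hxo i hi hix
    have hii : i * i = 1 := by rw [← pow_two, ← hi, pow_orderOf_eq_one]
    have hinv : i⁻¹ = i := inv_eq_of_mul_eq_one_right hii
    have hiy : i • x = o := by rw [← hix, smul_smul, hii, one_smul]
    have hpres : ∀ a ∈ P, i * a * i⁻¹ ∈ P := by
      intro a ha
      have ha' : a ∈ T x := by rw [hTF x hx hxo]; exact ha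
      rw [← hTF x hx hxo]
      refine ⟨(hoK _).mp ?_, ?_⟩
      · rw [hinv, mul_smul, mul_smul, hix, show a • x = x from ha'.2, hiy]
      · show (i * a * i⁻¹) • x = x
        rw [hinv, mul_smul, mul_smul, hiy, (hoK a).mpr (hPK ha), hix]
    have hNi : i ∈ N := by
      refine Subgroup.mem_normalizer_iff.mpr fun a => ⟨hpres a, fun ha => ?_⟩
      have := hpres _ ha
      rwa [show i * (i * a * i⁻¹) * i⁻¹ = (i * i) * a * (i * i)⁻¹ by group, hii, one_mul, inv_one,
        mul_one] at this
    refine ⟨hNi, fun a ha => ?_⟩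
    have hb := hpres a ha
    have hcom : Commute (a * (i * a * i⁻¹)) i := by
      show a * (i * a * i⁻¹) * i = i * (a * (i * a * i⁻¹))
      calc a * (i * a * i⁻¹) * i = i * a * i⁻¹ * a * i := by rw [hPcomm a ha _ hb]
        _ = i * a * (i * a * i⁻¹) := by simp only [hinv]; group
        _ = _ := by group
    obtain ⟨k, hk⟩ := hPgrp ⟨_, mul_mem ha hb⟩
    exact eq_inv_of_mul_eq_one_right
      (h.eq_one_of_commute_involution hi hp hp2 ⟨k, congrArg Subtype.val hk⟩ hcom)
  have horb : MulAction.orbit N o = F := by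
    ext x
    constructor
    · rintro ⟨⟨g, hg⟩, rfl⟩ a ha
      show a • g • o = g • o
      have := (Subgroup.mem_normalizer_iff.mp (inv_mem hg) a).mp ha
      rw [inv_inv] at this
      rw [show a • g • o = g • ((g⁻¹ * a * g) • o) by rw [smul_smul, smul_smul]; congr 1; group,
        (hoK _).mpr (hPK this)]
    · intro hx
      by_cases hxo : x = o
      · rw [hxo]; exact MulAction.mem_orbit_self o
      obtain ⟨⟨i, hi, hix⟩⟩ : Nonempty {i : G // orderOf i = 2 ∧ i • o = x} :=
        (Nat.card_pos_iff.mp (by rw [hswap x hxo]; exact hp.pos)).1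
      exact ⟨⟨i, (hswapN x hx hxo i hi hix).1⟩, hix⟩
  have hstabN : Nat.card (MulAction.stabilizer N o) = p := by
    set A := normalizer ((P.subgroupOf K : Subgroup K) : Set K) with hA
    have hPK' : Nat.card (P.subgroupOf K) = p := by
      rw [Nat.card_congr (Subgroup.subgroupOfEquivOfLe hPK).toEquiv, hP]
    have hAp : Nat.card A ∣ p := by
      refine Nat.Coprime.dvd_of_dvd_mul_right ?_ (hcardK ▸ A.card_subgroup_dvd_card : Nat.card A ∣ p * 2 ^ d)
      refine Nat.Coprime.pow_right d ?_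
      rw [Nat.coprime_two_right, ← Nat.not_even_iff_odd, even_iff_two_dvd]
      intro h2
      haveI : Fact (Nat.Prime 2) := ⟨Nat.prime_two⟩
      obtain ⟨⟨x, hxA⟩, hx⟩ := exists_prime_orderOf_dvd_card' (G := A) 2 h2
      rw [Subgroup.orderOf_mk] at hx
      exact hnorm _ hPK' x hx hxA
    refine le_antisymm ((Nat.card_le_card_of_injective (fun (g : MulAction.stabilizer N o) => (⟨⟨((g : N) : G), (hoK _).mp g.2⟩, ?_⟩ : A))
      fun a b hab => Subtype.ext (Subtype.ext (congrArg (fun c : A => ((c : K) : G)) hab))).trans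
      (Nat.le_of_dvd hp.pos hAp)) ?_
    · refine Subgroup.mem_normalizer_iff.mpr fun a => ?_
      simp only [Subgroup.mem_subgroupOf]
      exact Subgroup.mem_normalizer_iff.mp (g : N).2 (a : G)
    · rw [← hP]
      refine Nat.card_le_card_of_injective
        (fun a => (⟨⟨(a : G), Subgroup.le_normalizer a.2⟩, (hoK _).mpr (hPK a.2)⟩ : MulAction.stabilizer N o))
        fun a b hab => Subtype.ext (congrArg (fun c : MulAction.stabilizer N o => ((c : N) : G)) hab)
  have hNcard : Nat.card F * p = Nat.card N := by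
    rw [← hstabN, ← horb, ← Nat.card_prod]
    exact Nat.card_congr (MulAction.orbitProdStabilizerEquivGroup N o)
  have hx₀F : x₀ ∈ F := hPfix
  -- the fixed points are only two
  have hF2 : Nat.card F ≤ 2 := by
    obtain ⟨hjN, hjinv⟩ := hswapN x₀ hx₀F hx₀o u hu rfl
    set C := Subgroup.centralizer (P : Set G) with hC
    have hCN : C ≤ N := Subgroup.centralizer_le_normalizer (G := G) (P : Set G)
    have hCne : C ≠ N := fun e => by
      obtain ⟨a, ha⟩ : ∃ a : P, a ≠ 1 := by
        haveI : Fintype P := Fintype.ofFinite _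
        exact Fintype.exists_ne_of_one_lt_card (by rw [← Nat.card_eq_fintype_card, hP]; exact hp.one_lt) 1
      have hjC : u ∈ C := e.symm ▸ hjN
      have hca : (a : G) * u = u * a := Subgroup.mem_centralizer_iff.mp hjC a a.2
      have := h.eq_one_of_commute_involution hu hp hp2 ⟨1, by
        rw [pow_one]
        have := pow_card_eq_one' (x := a)
        rw [hP] at this
        exact congrArg Subtype.val this⟩ (hca : Commute (a : G) u)
      exact ha (Subtype.ext this)
    have h2C : 2 * Nat.card C ≤ Nat.card N := by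
      obtain ⟨k, hk⟩ := Subgroup.card_dvd_of_le hCN
      rcases k with _ | _ | k
      · simp at hk
        exact absurd hk Nat.card_pos.ne'
      · exfalso
        exact hCne (Subgroup.eq_of_le_of_card_ge hCN (by simp at hk; omega))
      · rw [hk, mul_comm 2]
        exact Nat.mul_le_mul le_rfl (by omega)
    have huu : u⁻¹ = u := inv_eq_of_mul_eq_one_right (by rw [← pow_two, ← hu, pow_orderOf_eq_one])
    let R := {x : G ⧸ K // x ∈ F ∧ x ≠ o}
    haveI : Fintype R := Fintype.ofFinite _
    have hphi : ∀ v : Σ x : R, {i : G // orderOf i = 2 ∧ i • o = (x : G ⧸ K)}, (v.2 : G) * u ∈ C := by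
      rintro ⟨⟨x, hx, hxo⟩, i, hi, hix⟩
      refine Subgroup.mem_centralizer_iff.mpr fun a ha => ?_
      have h1 := (hswapN x hx hxo i hi hix).2 a⁻¹ (inv_mem ha)
      have h2 := hjinv a ha
      rw [inv_inv] at h1
      calc a * (i * u) = (i * a⁻¹ * i⁻¹) * (i * u) := by rw [h1]
        _ = i * u * (u⁻¹ * a⁻¹ * u) := by group
        _ = i * u * a := by
          congr 1
          have e2 : a⁻¹ = u * a * u⁻¹ := h2.symm
          rw [e2]; group
    have hle : Nat.card (Σ x : R, {i : G // orderOf i = 2 ∧ i • o = (x : G ⧸ K)}) ≤ Nat.card C := by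
      refine Nat.card_le_card_of_injective (fun v => (⟨_, hphi v⟩ : C)) ?_
      rintro ⟨x, i, hi⟩ ⟨y, j, hj⟩ hab
      have hij : i = j := mul_right_cancel (congrArg (fun c : C => (c : G)) hab)
      subst hij
      have : x = y := Subtype.ext (hi.2.symm.trans hj.2)
      subst this
      rfl
    rw [Nat.card_sigma, Finset.sum_congr rfl (fun (x : R) _ => hswap (x : G ⧸ K) x.2.2), Finset.sum_const,
      Finset.card_univ, smul_eq_mul, ← Nat.card_eq_fintype_card] at hle
    have hR : Nat.card F ≤ Nat.card R + 1 := by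
      rw [← Finite.card_option]
      refine Nat.card_le_card_of_injective
        (fun x : F => if hxo : (x : G ⧸ K) = o then (none : Option R) else some ⟨x, x.2, hxo⟩) ?_
      intro a b hab
      by_cases ha : (a : G ⧸ K) = o <;> by_cases hb : (b : G ⧸ K) = o <;> simp [ha, hb] at hab
      · exact Subtype.ext (ha.trans hb.symm)
      · exact Subtype.ext (congrArg (fun r : R => (r : G ⧸ K)) hab)
    by_contra h3
    have h1 : 2 * (Nat.card R * p) ≤ Nat.card F * p := by rw [hNcard]; omega
    rw [← mul_assoc] at h1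
    have := Nat.le_of_mul_le_mul_right h1 hp.pos
    omega
  have hFeq : ∀ x, (∀ a ∈ P, a • x = x) → x = o ∨ x = x₀ := by
    intro x hx
    by_contra hc
    push Not at hc
    haveI : Fintype F := Fintype.ofFinite _
    have : 2 < Nat.card F := by
      rw [Nat.card_eq_fintype_card, Fintype.two_lt_card_iff]
      exact ⟨⟨o, hoF⟩, ⟨x₀, hx₀F⟩, ⟨x, hx⟩, fun e => hx₀o (congrArg Subtype.val e).symm,
        fun e => hc.1 (congrArg Subtype.val e).symm, fun e => hc.2 (congrArg Subtype.val e).symm⟩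
    omega
  have htwo : ∀ x : G ⧸ K, x ≠ o → ∃ k ∈ K, k • x₀ = x := by
    intro x hx
    have hcp : ∀ Q : Subgroup K, Nat.card Q = p → Nat.card Q = p ^ (Nat.card K).factorization p := by
      intro Q hQ
      rw [hQ, hcardK, Nat.factorization_mul hp.ne_zero (by positivity), Finsupp.add_apply,
        hp.factorization_self, Nat.factorization_eq_zero_of_not_dvd (fun hd => hp2
          ((Nat.prime_dvd_prime_iff_eq hp Nat.prime_two).mp (hp.dvd_of_dvd_pow hd))), add_zero, pow_one]
    have c1 : Nat.card (P.subgroupOf K) = p := by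
      rw [Nat.card_congr (Subgroup.subgroupOfEquivOfLe hPK).toEquiv, hP]
    have c2 : Nat.card ((T x).subgroupOf K) = p := by
      rw [Nat.card_congr (Subgroup.subgroupOfEquivOfLe (inf_le_left : T x ≤ K)).toEquiv, hT x hx]
    obtain ⟨k, hk⟩ := MulAction.exists_smul_eq K (Sylow.ofCard (P.subgroupOf K) (hcp _ c1))
      (Sylow.ofCard ((T x).subgroupOf K) (hcp _ c2))
    refine ⟨(k : G), k.2, ?_⟩
    have hfix : ∀ a ∈ P, a • ((k : G)⁻¹ • x) = (k : G)⁻¹ • x := by
      intro a ha
      have hm : k * (⟨a, hPK ha⟩ : K) * k⁻¹ ∈ (T x).subgroupOf K := by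
        have hc := congrArg Sylow.toSubgroup hk
        rw [Sylow.coe_subgroup_smul, Sylow.coe_ofCard, Sylow.coe_ofCard] at hc
        rw [← hc]
        exact ⟨⟨a, hPK ha⟩, ha, rfl⟩
      have hm' : ((k : G) * a * (k : G)⁻¹) • x = x := hm.2
      conv_rhs => rw [← hm']
      rw [smul_smul, smul_smul]
      congr 1; group
    rcases hFeq _ hfix with e | e
    · exfalso
      rw [inv_smul_eq_iff, (hoK _).mpr k.2] at e
      exact hx e
    · rw [inv_smul_eq_iff] at e
      exact e.symm
  have hmove : ∀ a b : G ⧸ K, a ≠ b → ∃ g : G, g • a = o ∧ g • b = x₀ := by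
    intro a b hab
    obtain ⟨g, hg⟩ := MulAction.exists_smul_eq G a o
    obtain ⟨k, hk, hkb⟩ := htwo (g • b) fun e => hab (MulAction.injective g (hg.trans e.symm))
    refine ⟨k⁻¹ * g, ?_, ?_⟩
    · rw [mul_smul, hg]; exact (hoK _).mpr (inv_mem hk)
    · rw [mul_smul, ← hkb, inv_smul_smul]
  obtain ⟨a₀, ha₀P, ha₀⟩ : ∃ a ∈ P, a ≠ (1 : G) := by
    by_contra hall
    push Not at hall
    rw [P.eq_bot_iff_forall.mpr hall, Subgroup.card_bot] at hP
    exact hp.one_lt.ne hP
  have hnormal : ∀ g : G, (∀ x : G ⧸ K, g • x = x) → g = 1 := by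
    intro g hg
    have hle : g ∈ K.normalCore := by
      intro b
      rw [← hoK, mul_smul, mul_smul, hg, smul_inv_smul]
    rcases K.normalCore_normal.eq_bot_or_eq_top with e | e
    · rwa [e, Subgroup.mem_bot] at hle
    · exact absurd (top_unique (e ▸ K.normalCore_le)) hK.1
  have hZ : Cfsg.IsZassenhausGroup G (G ⧸ K) := by
    refine ⟨⟨fun {g g'} hgg => ?_⟩, ?_, ?_, ⟨a₀, ha₀, o, x₀, hx₀o.symm, hoF a₀ ha₀P, hPfix a₀ ha₀P⟩, ?_⟩
    · have := hnormal (g'⁻¹ * g) fun x => by rw [mul_smul, hgg, inv_smul_smul]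
      exact (inv_mul_eq_one.mp this).symm
    · rw [MulAction.is_two_pretransitive_iff]
      intro a b c e hab hce
      obtain ⟨g, hga, hgb⟩ := hmove a b hab
      obtain ⟨g', hgc, hge⟩ := hmove c e hce
      refine ⟨g'⁻¹ * g, ?_, ?_⟩
      · rw [mul_smul, hga, ← hgc, inv_smul_smul]
      · rw [mul_smul, hgb, ← hge, inv_smul_smul]
    · intro g a b c hab hbc hac hga hgb hgc
      obtain ⟨m, hma, hmb⟩ := hmove a b hab
      by_contra hg1
      have hfix : ∀ y : G ⧸ K, g • y = y → (m * g * m⁻¹) • (m • y) = m • y := fun y hy => by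
        rw [mul_smul, mul_smul, inv_smul_smul, hy]
      have hmP : m * g * m⁻¹ ∈ P :=
        ⟨(hoK _).mp (hma ▸ hfix a hga), hmb ▸ hfix b hgb⟩
      have hzp : P ≤ Subgroup.zpowers (m * g * m⁻¹) := by
        refine le_of_eq (Subgroup.eq_of_le_of_card_ge ((Subgroup.zpowers_le).mpr hmP) ?_).symm
        rw [hP, Nat.card_zpowers]
        have hd : orderOf (m * g * m⁻¹) ∣ p := hP ▸ Subgroup.orderOf_dvd_natCard P hmP
        rcases (Nat.dvd_prime hp).mp hd with e | e
        · rw [orderOf_eq_one_iff, mul_inv_eq_one] at e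
          exact absurd (mul_eq_left.mp e) hg1
        · exact le_of_eq e.symm
      rcases hFeq (m • c) fun y hy => (MulAction.mem_stabilizer_iff.mp
        ((Subgroup.zpowers_le.mpr (MulAction.mem_stabilizer_iff.mpr (hfix c hgc))) (hzp hy))) with e | e
      · exact hac (MulAction.injective m (hma.trans e.symm))
      · exact hbc (MulAction.injective m (hmb.trans e.symm))
    · intro M hM htr
      rcases hM.eq_bot_or_eq_top with rfl | rfl
      · exfalso
        obtain ⟨g, hg⟩ := htr.exists_smul_eq o x₀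
        exact hx₀o (hg.symm.trans (by rw [Subsingleton.elim g 1]; exact one_smul _ o))
      · refine ⟨o, fun hbot => ha₀ ?_⟩
        have : (⟨a₀, Subgroup.mem_top _⟩ : (⊤ : Subgroup G)) ∈ MulAction.stabilizer (⊤ : Subgroup G) o :=
          hoF a₀ ha₀P
        exact congrArg Subtype.val (Subgroup.mem_bot.mp ((SetLike.ext_iff.mp hbot _).mp this))
  rcases S0340.result hZ with ⟨F', _, _, ⟨e⟩⟩ | hsz
  · exact h.psl_card hns e
  · exact (h.not_suzuki hsz).elim

theorem P5.case_strong (h : P5 G) [IsSimpleGroup G] (hns : ¬ Group.IsSolvable G)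
    (IH : ∀ H : Subgroup G, H ≠ ⊤ → ¬ Group.IsSolvable H → Concl H)
    (K : Subgroup G) (hK : Cfsg.IsStronglyEmbedded K) : Nat.card G = 168 := by
  by_cases hs : Group.IsSolvable K
  · haveI := hs
    exact h.strong_solvable hns hK
  · exact h.strong_nonsolvable hns hK (IH K hK.1 hs)

end Cfsg.Agent.OrdTwoPrime
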